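import Cfsg.Agent.H682.CT.Crit
import Cfsg.Prelude.Def_KGroupFacts

/-!
# `NoExt` from the Schur multiplier

* `NoExt.univ` : change of the universe of the extensions;
* `noExt_of_mult` : a perfect group whose Schur multiplier is cyclic of order `n` prime to `p`.
-/

set_option autoImplicit false

namespace Cfsg.Agent.H682.CT

open Subgroup
open scoped commutatorElement

universe u v w

/-- the universe of the extensions does not matter -/
theorem NoExt.univ {p : ℕ} {Q : Type u} [Group Q] (h : NoExt.{u, w} p Q) : NoExt.{u, v} p Q := by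
  intro E _ _ f hf hz hp
  have hsm : Small.{w, v} E := inferInstance
  let e : E ≃ Shrink.{w, v} E := @equivShrink.{w, v} E hsm
  let _ : Group (Shrink.{w, v} E) := e.symm.group
  have : Finite (Shrink.{w, v} E) := Finite.of_equiv E e
  let φ : Shrink.{w, v} E ≃* E := e.symm.mulEquiv
  have hk : (f.comp φ.toMonoidHom).ker = f.ker.comap φ.toMonoidHom := by
    ext x
    exact Iff.rfl
  have h1 := h (Shrink.{w, v} E) (f.comp φ.toMonoidHom) (hf.comp φ.surjective) (by
      rw [hk]
      intro x hx
      rw [mem_center_iff]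
      intro y
      apply φ.injective
      rw [map_mul, map_mul]
      exact mem_center_iff.1 (hz hx) (φ y)) (by
      rw [hk]
      exact hp.comap_of_injective φ.toMonoidHom φ.injective)
  rw [eq_bot_iff] at h1 ⊢
  intro x hx
  obtain ⟨hx1, hx2⟩ := mem_inf.1 hx
  obtain ⟨y, rfl⟩ := φ.surjective x
  have h2 : y ∈ (commutator (Shrink.{w, v} E)) := by
    have h3 : (commutator (Shrink.{w, v} E)).map φ.toMonoidHom = commutator E := by
      rw [_root_.commutator_def (Shrink.{w, v} E), Subgroup.map_commutator, ← MonoidHom.range_eq_map,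
        MonoidHom.range_eq_top.2 φ.surjective, ← _root_.commutator_def]
    rw [← h3] at hx2
    obtain ⟨z, hz', hzy⟩ := hx2
    rwa [← φ.injective hzy]
  have h4 := h1 (mem_inf.2 ⟨by rw [hk]; exact hx1, h2⟩)
  rw [mem_bot] at h4 ⊢
  rw [h4, map_one]

/-- perfect central extensions suffice -/
theorem noExt_of_stem {p : ℕ} {Q : Type u} [Group Q] (hQ : commutator Q = ⊤)
    (hs : ∀ (D : Type v) [Group D] [Finite D] (σ : D →* Q), Function.Surjective σ → σ.ker ≤ center D →
      commutator D = ⊤ → IsPGroup p σ.ker → σ.ker = ⊥) : NoExt.{u, v} p Q := by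
  intro E _ _ f hf hz hpk
  have hperf := commutator_perfect hQ f hf hz
  let σ : commutator E →* Q := f.comp (commutator E).subtype
  have hσ : Function.Surjective σ := by
    intro q
    obtain ⟨x, rfl⟩ := hf q
    obtain ⟨y, hy, z, hz', rfl⟩ := exists_mul_ker hQ f hf x
    exact ⟨⟨y, hy⟩, by simp [σ, MonoidHom.mem_ker.1 hz']⟩
  have hσz : σ.ker ≤ center (commutator E) := by
    intro x hx
    rw [mem_center_iff]
    intro y
    apply Subtype.ext
    have : (x : E) ∈ center E := hz (by simpa [σ, MonoidHom.mem_ker] using hx)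
    exact mem_center_iff.1 this y
  have hcom : commutator (commutator E) = ⊤ := by
    have h1 : (commutator (commutator E)).map (commutator E).subtype = (⊤ : Subgroup (commutator E)).map
        (commutator E).subtype := by
      rw [_root_.commutator_def (commutator E), Subgroup.map_commutator, ← MonoidHom.range_eq_map, Subgroup.range_subtype,
        hperf]
    exact Subgroup.map_injective (Subgroup.subtype_injective _) h1
  have hpk' : IsPGroup p σ.ker := by
    have hcomap : σ.ker = f.ker.comap (commutator E).subtype := by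
      ext t
      simp [σ, MonoidHom.mem_ker, mem_subgroupOf]
    rw [hcomap]
    exact hpk.comap_subtype
  have h1 := hs _ σ hσ hσz hcom hpk'
  rw [eq_bot_iff]
  intro x hx
  obtain ⟨hx1, hx2⟩ := mem_inf.1 hx
  have hx3 : (⟨x, hx2⟩ : commutator E) ∈ σ.ker := by simpa [σ, MonoidHom.mem_ker] using hx1
  rw [h1, mem_bot] at hx3
  rw [mem_bot]
  exact congrArg Subtype.val hx3

/-- `p` does not divide the order of the Schur multiplier -/
theorem noExt_of_mult' {p : ℕ} (hp : p.Prime) {Q : Type u} [Group Q] (hQ : commutator Q = ⊤) {A : Type w} [CommGroup A]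
    [Finite A] (h : Cfsg.HasSchurMultiplier Q A) (hn : ¬ p ∣ Nat.card A) : NoExt.{u, v} p Q := by
  have : Fact p.Prime := ⟨hp⟩
  refine NoExt.univ.{u, v, u} (noExt_of_stem hQ fun D _ _ σ hσ hz hD hpk => ?_)
  obtain ⟨π, hπ⟩ := h.2 D σ ⟨hσ, hz, by rw [hD]; exact le_top⟩
  obtain ⟨k, hk⟩ := IsPGroup.iff_card.1 hpk
  have h1 : Nat.card σ.ker ∣ Nat.card A := Subgroup.card_dvd_of_surjective π hπ
  rw [hk] at h1
  rcases Nat.eq_zero_or_pos k with rfl | hk0
  · rw [pow_zero] at hk
    exact Subgroup.card_eq_one.1 hk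
  · exact absurd (dvd_trans (dvd_pow_self p hk0.ne') h1) hn

/-- `p` does not divide the order of the cyclic Schur multiplier -/
theorem noExt_of_mult {p : ℕ} (hp : p.Prime) {Q : Type u} [Group Q] (hQ : commutator Q = ⊤) {n : ℕ}
    (h : Cfsg.HasCyclicSchurMultiplier Q n) (hn : ¬ p ∣ n) : NoExt.{u, v} p Q := by
  have hn0 : n ≠ 0 := by
    rintro rfl
    exact hn (dvd_zero p)
  have : NeZero n := ⟨hn0⟩
  exact noExt_of_mult' hp hQ h (by rwa [show Nat.card (Multiplicative (ZMod n)) = n by simp])

end Cfsg.Agent.H682.CT
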