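import Cfsg.Agent.H682.CT.TwoPrime
import Cfsg.Agent.H682.CT.Mult
import Cfsg.Agent.Nodes.RGDLie

/-!
# `Fit` for groups of Lie type: two primes different from the characteristic

* `fit_of_rgd` : a root group datum of characteristic `r` and two primes `p₁ ≠ p₂`, different from `r`, dividing the
  order and satisfying `NoExt`;
* `fit_of_lie` : the same for `IsLieTypeChar r S` (without Suzuki, Ree and `²F₄`).
-/

set_option autoImplicit false

namespace Cfsg.Agent.H682.CT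

universe u v

/-- the centre of a non-abelian simple group -/
theorem center_eq_bot {S : Type u} [Group S] [IsSimpleGroup S] (hna : ¬ ∀ a b : S, a * b = b * a) :
    Subgroup.center S = ⊥ := by
  rcases (inferInstance : (Subgroup.center S).Normal).eq_bot_or_eq_top with h | h
  · exact h
  · exfalso
    apply hna
    intro a b
    have h1 : a ∈ Subgroup.center S := by rw [h]; trivial
    exact (Subgroup.mem_center_iff.1 h1 b).symm

theorem fit_of_rgd {S : Type u} [Group S] [Finite S] [IsSimpleGroup S] (hna : ¬ ∀ a b : S, a * b = b * a) {r : ℕ}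
    (hr : r.Prime) (hS : Nodes.RGDChev.HasRGD r S) {p₁ p₂ : ℕ} (hp₁ : p₁.Prime) (hp₂ : p₂.Prime) (hne : p₁ ≠ p₂)
    (h₁ : p₁ ≠ r) (h₂ : p₂ ≠ r) (hd₁ : p₁ ∣ Nat.card S) (hd₂ : p₂ ∣ Nat.card S) (he₁ : NoExt.{u, v} p₁ S)
    (he₂ : NoExt.{u, v} p₂ S) : Fit.{u, v} S := by
  rcases TwoPrime.noIdx_or (center_eq_bot hna) hr hS hp₁ hp₂ hne h₁ h₂ with h | h
  · exact ⟨p₁, hp₁, hd₁, he₁, h⟩
  · exact ⟨p₂, hp₂, hd₂, he₂, h⟩

theorem fit_of_lie {S : Type u} [Group S] [Finite S] [IsSimpleGroup S] (hna : ¬ ∀ a b : S, a * b = b * a) {r : ℕ}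
    (hr : r.Prime) (hS : Cfsg.IsLieTypeChar r S) (hsz : ¬ Cfsg.Lie.IsoSuzuki S) (hree : ¬ Cfsg.Lie.IsoRee S)
    (hf : ¬ Cfsg.Lie.Iso2F4 S) {p₁ p₂ : ℕ} (hp₁ : p₁.Prime) (hp₂ : p₂.Prime) (hne : p₁ ≠ p₂)
    (h₁ : p₁ ≠ r) (h₂ : p₂ ≠ r) (hd₁ : p₁ ∣ Nat.card S) (hd₂ : p₂ ∣ Nat.card S) (he₁ : NoExt.{u, v} p₁ S)
    (he₂ : NoExt.{u, v} p₂ S) : Fit.{u, v} S := by
  rcases Nodes.RGDLie.hasRGD_of_lie hS with h | h | h | h
  · exact fit_of_rgd hna hr h hp₁ hp₂ hne h₁ h₂ hd₁ hd₂ he₁ he₂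
  · exact absurd h.2 hsz
  · exact absurd h.2 hf
  · exact absurd h.2 hree

end Cfsg.Agent.H682.CT
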