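import Cfsg.Agent.H682.CT.Defs
import Cfsg.Agent.S0102

/-!
# Criteria for `Fit`

* `noExt_of_cyclic` : perfect groups with cyclic Sylow `p`-subgroups satisfy `NoExt p`;
* `fit_of_two` : `S` simple with nontrivial cyclic Sylow subgroups for two different primes;
* `fit_of_not_dvd` : `S` simple with a nontrivial cyclic Sylow `p`-subgroup of order `m` and `|S| ∤ m!`.
-/

set_option autoImplicit false

namespace Cfsg.Agent.H682.CT

open Subgroup
open scoped commutatorElement

universe u v w

/-- a central extension of a perfect group: `E = E' Z` -/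
theorem exists_mul_ker {Q : Type u} [Group Q] (hQ : commutator Q = ⊤) {E : Type v} [Group E] (f : E →* Q)
    (hf : Function.Surjective f) (x : E) : ∃ y ∈ commutator E, ∃ z ∈ f.ker, x = y * z := by
  have hmap : (commutator E).map f = ⊤ := by
    rw [commutator_def, Subgroup.map_commutator, ← MonoidHom.range_eq_map, MonoidHom.range_eq_top.2 hf,
      ← commutator_def, hQ]
  have h1 : f x ∈ (commutator E).map f := by rw [hmap]; trivial
  obtain ⟨y, hy, hxy⟩ := h1
  refine ⟨y, hy, y⁻¹ * x, ?_, by group⟩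
  rw [MonoidHom.mem_ker, map_mul, map_inv, hxy]
  group

/-- a central extension of a perfect group has perfect derived subgroup -/
theorem commutator_perfect {Q : Type u} [Group Q] (hQ : commutator Q = ⊤) {E : Type v} [Group E] (f : E →* Q)
    (hf : Function.Surjective f) (hz : f.ker ≤ center E) : ⁅commutator E, commutator E⁆ = commutator E := by
  apply le_antisymm (Subgroup.commutator_le_left _ _)
  rw [commutator_def, Subgroup.commutator_le]
  intro a _ b _
  obtain ⟨y, hy, z, hzk, rfl⟩ := exists_mul_ker hQ f hf a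
  obtain ⟨y', hy', z', hzk', rfl⟩ := exists_mul_ker hQ f hf b
  have e1 : ∀ t : E, z * t = t * z := fun t => (mem_center_iff.1 (hz hzk) t).symm
  have e2 : ∀ t : E, z' * t = t * z' := fun t => (mem_center_iff.1 (hz hzk') t).symm
  have : ⁅y * z, y' * z'⁆ = ⁅y, y'⁆ := by
    rw [commutatorElement_def, commutatorElement_def, _root_.mul_inv_rev, _root_.mul_inv_rev]
    calc y * z * (y' * z') * (z⁻¹ * y⁻¹) * (z'⁻¹ * y'⁻¹)
        = y * (z * (y' * z')) * z⁻¹ * y⁻¹ * z'⁻¹ * y'⁻¹ := by group
      _ = y * ((y' * z') * z) * z⁻¹ * y⁻¹ * z'⁻¹ * y'⁻¹ := by rw [e1]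
      _ = y * y' * (z' * (y⁻¹)) * z'⁻¹ * y'⁻¹ := by group
      _ = y * y' * ((y⁻¹) * z') * z'⁻¹ * y'⁻¹ := by rw [e2]
      _ = y * y' * y⁻¹ * y'⁻¹ := by group
  rw [this]
  exact Subgroup.commutator_mem_commutator hy hy'

theorem noExt_of_cyclic {p : ℕ} (hp : p.Prime) {Q : Type u} [Group Q] [Finite Q] (hQ : commutator Q = ⊤)
    (hc : ∀ P : Sylow p Q, IsCyclic P) : NoExt.{u, v} p Q := by
  have : Fact p.Prime := ⟨hp⟩
  intro E _ _ f hf hz hpk
  have hperf := commutator_perfect hQ f hf hz
  -- the restriction of `f` to `E'`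
  let σ : commutator E →* Q := f.comp (commutator E).subtype
  have hσ : Function.Surjective σ := by
    intro q
    obtain ⟨x, rfl⟩ := hf q
    obtain ⟨y, hy, z, hz', rfl⟩ := exists_mul_ker hQ f hf x
    exact ⟨⟨y, hy⟩, by simp [σ, MonoidHom.mem_ker.1 hz']⟩
  have hσz : σ.ker ≤ center (commutator E) := by
    intro x hx
    rw [mem_center_iff]
    intro y
    apply Subtype.ext
    have : (x : E) ∈ center E := hz (by simpa [σ, MonoidHom.mem_ker] using hx)
    exact mem_center_iff.1 this y
  have hcom : commutator (commutator E) = ⊤ := by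
    have h1 : (commutator (commutator E)).map (commutator E).subtype = (⊤ : Subgroup (commutator E)).map
        (commutator E).subtype := by
      rw [_root_.commutator_def (commutator E), Subgroup.map_commutator, ← MonoidHom.range_eq_map, Subgroup.range_subtype,
        hperf]
    exact Subgroup.map_injective (Subgroup.subtype_injective _) h1
  have h1 := Cfsg.Agent.S0102.result hQ hc σ hσ hσz hcom
  rw [eq_bot_iff]
  intro x hx
  obtain ⟨hx1, hx2⟩ := mem_inf.1 hx
  have hx3 : (⟨x, hx2⟩ : commutator E) ∈ σ.ker := by simpa [σ, MonoidHom.mem_ker] using hx1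
  by_contra hne
  rw [mem_bot] at hne
  have hpk' : IsPGroup p σ.ker := by
    have hcomap : σ.ker = f.ker.comap (commutator E).subtype := by
      ext t
      simp [σ, MonoidHom.mem_ker, mem_subgroupOf]
    rw [hcomap]
    exact hpk.comap_subtype
  obtain ⟨n, hn⟩ := (IsPGroup.iff_card.1 hpk')
  rcases Nat.eq_zero_or_pos n with rfl | hn0
  · rw [pow_zero, Subgroup.card_eq_one] at hn
    rw [hn, mem_bot] at hx3
    exact hne (congrArg Subtype.val hx3)
  · exact h1 (by rw [hn]; exact dvd_pow_self p hn0.ne')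

/-- An element of prime power order acting faithfully has a cycle of full length. -/
theorem orderOf_le_card {G : Type u} [Group G] {X : Type v} [Finite X] [MulAction G X] {p c : ℕ} (hp : p.Prime)
    (x : G) (hx : orderOf x = p ^ c) (hfaith : ∀ g : G, (∀ y : X, g • y = y) → g = 1) (hX : Nonempty X) :
    p ^ c ≤ Nat.card X := by
  rcases Nat.eq_zero_or_pos c with rfl | hc
  · rw [pow_zero]
    exact Nat.card_pos
  have h1 : x ^ (p ^ (c - 1)) ≠ 1 := by
    intro h
    have := orderOf_dvd_of_pow_eq_one h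
    rw [hx] at this
    have := (Nat.pow_dvd_pow_iff_le_right hp.one_lt).1 this
    omega
  have h2 : ∃ y : X, x ^ (p ^ (c - 1)) • y ≠ y := by
    by_contra h
    push Not at h
    exact h1 (hfaith _ h)
  obtain ⟨y, hy⟩ := h2
  have h3 : Function.minimalPeriod (x • ·) y ∣ p ^ c := by
    rw [← MulAction.pow_smul_eq_iff_minimalPeriod_dvd, ← hx, pow_orderOf_eq_one, one_smul]
  have h4 : ¬ Function.minimalPeriod (x • ·) y ∣ p ^ (c - 1) := by
    rw [← MulAction.pow_smul_eq_iff_minimalPeriod_dvd]
    exact hy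
  obtain ⟨k, hk, hk'⟩ := (Nat.dvd_prime_pow hp).1 h3
  have h5 : k = c := by
    by_contra hne
    apply h4
    rw [hk']
    exact pow_dvd_pow p (by omega)
  subst h5
  rw [← hk']
  have := Fintype.ofFinite X
  have := Fintype.ofFinite (MulAction.orbit (zpowers x) y)
  rw [MulAction.minimalPeriod_eq_card, Nat.card_eq_fintype_card]
  exact Fintype.card_le_of_injective _ Subtype.val_injective

/-- simple groups act faithfully on the cosets of proper subgroups -/
theorem faithful_quotient {S : Type u} [Group S] [IsSimpleGroup S] {H : Subgroup S} (hH : H ≠ ⊤) (g : S)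
    (hg : ∀ y : S ⧸ H, g • y = y) : g = 1 := by
  have h1 : g ∈ H.normalCore := by
    rw [Subgroup.normalCore_eq_ker, MonoidHom.mem_ker]
    ext y
    exact hg y
  rcases IsSimpleGroup.eq_bot_or_eq_top_of_normal H.normalCore inferInstance with h | h
  · rw [h, mem_bot] at h1
    exact h1
  · exfalso
    apply hH
    rw [eq_top_iff, ← h]
    exact normalCore_le H

theorem commutator_eq_top {S : Type u} [Group S] [IsSimpleGroup S] (hna : ¬ ∀ a b : S, a * b = b * a) :
    commutator S = ⊤ := by
  rcases IsSimpleGroup.eq_bot_or_eq_top_of_normal (commutator S) inferInstance with h | h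
  · exfalso
    apply hna
    intro a b
    have h1 : ⁅a, b⁆ ∈ commutator S := by
      rw [commutator_def]
      exact Subgroup.commutator_mem_commutator trivial trivial
    rw [h, mem_bot, commutatorElement_eq_one_iff_mul_comm] at h1
    exact h1
  · exact h

theorem noIdx_of_lt {S : Type u} [Group S] [Finite S] [IsSimpleGroup S] {p : ℕ} (hp : p.Prime) {r c : ℕ}
    (hr : r.Prime) (x : S) (hx : orderOf x = r ^ c) (hlt : p ^ (Nat.card S).factorization p < r ^ c) :
    NoIdx p S := by
  intro H k hk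
  by_contra hne
  have h1 : r ^ c ≤ Nat.card (S ⧸ H) :=
    orderOf_le_card hr x hx (fun g hg => faithful_quotient hne g hg) ⟨QuotientGroup.mk 1⟩
  have h2 : Nat.card (S ⧸ H) = p ^ k := hk
  have h3 : p ^ k ∣ Nat.card S := by rw [← hk]; exact H.index_dvd_card
  have h4 : k ≤ (Nat.card S).factorization p := (hp.pow_dvd_iff_le_factorization Nat.card_pos.ne').1 h3
  have h5 : p ^ k ≤ p ^ (Nat.card S).factorization p := Nat.pow_le_pow_right hp.pos h4
  omega

theorem noIdx_of_not_dvd {S : Type u} [Group S] [Finite S] [IsSimpleGroup S] {p : ℕ} (hp : p.Prime)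
    (h : ¬ Nat.card S ∣ (p ^ (Nat.card S).factorization p).factorial) : NoIdx p S := by
  intro H k hk
  by_contra hne
  apply h
  have h3 : p ^ k ∣ Nat.card S := by rw [← hk]; exact H.index_dvd_card
  have h4 : k ≤ (Nat.card S).factorization p := (hp.pow_dvd_iff_le_factorization Nat.card_pos.ne').1 h3
  have h5 : p ^ k ≤ p ^ (Nat.card S).factorization p := Nat.pow_le_pow_right hp.pos h4
  refine dvd_trans ?_ (Nat.factorial_dvd_factorial h5)
  have h6 : Nat.card (Equiv.Perm (S ⧸ H)) = (p ^ k).factorial := by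
    rw [Nat.card_perm, ← hk]
    rfl
  rw [← h6]
  refine Subgroup.card_dvd_of_injective (MulAction.toPermHom S (S ⧸ H)) ?_
  rw [injective_iff_map_eq_one]
  intro g hg
  refine faithful_quotient hne g fun y => ?_
  have := congrArg (fun f : Equiv.Perm (S ⧸ H) => f y) hg
  exact this

/-- the generator of a cyclic Sylow subgroup -/
theorem exists_orderOf_eq {S : Type u} [Group S] [Finite S] {p : ℕ} (hp : p.Prime)
    (hc : ∀ P : Sylow p S, IsCyclic P) : ∃ x : S, orderOf x = p ^ (Nat.card S).factorization p := by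
  have : Fact p.Prime := ⟨hp⟩
  let P : Sylow p S := default
  obtain ⟨g, hg⟩ := (hc P).exists_generator
  refine ⟨g, ?_⟩
  rw [← P.card_eq_multiplicity, Subgroup.orderOf_coe]
  exact orderOf_eq_card_of_forall_mem_zpowers hg

theorem fit_of_two {S : Type u} [Group S] [Finite S] [IsSimpleGroup S] (hna : ¬ ∀ a b : S, a * b = b * a)
    {p₁ p₂ : ℕ} (hp₁ : p₁.Prime) (hp₂ : p₂.Prime) (hne : p₁ ≠ p₂) (hd₁ : p₁ ∣ Nat.card S) (hd₂ : p₂ ∣ Nat.card S)
    (hc₁ : ∀ P : Sylow p₁ S, IsCyclic P) (hc₂ : ∀ P : Sylow p₂ S, IsCyclic P) : Fit.{u, v} S := by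
  have hperf := commutator_eq_top hna
  obtain ⟨x₁, hx₁⟩ := exists_orderOf_eq hp₁ hc₁
  obtain ⟨x₂, hx₂⟩ := exists_orderOf_eq hp₂ hc₂
  rcases lt_trichotomy (p₁ ^ (Nat.card S).factorization p₁) (p₂ ^ (Nat.card S).factorization p₂) with h | h | h
  · exact ⟨p₁, hp₁, hd₁, noExt_of_cyclic hp₁ hperf hc₁, noIdx_of_lt hp₁ hp₂ x₂ hx₂ h⟩
  · exfalso
    have h1 : p₁ ∣ p₂ ^ (Nat.card S).factorization p₂ := by
      rw [← h]
      refine dvd_pow_self p₁ ?_
      have := (hp₁.dvd_iff_one_le_factorization Nat.card_pos.ne').1 hd₁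
      omega
    exact hne ((Nat.prime_dvd_prime_iff_eq hp₁ hp₂).1 (hp₁.dvd_of_dvd_pow h1))
  · exact ⟨p₂, hp₂, hd₂, noExt_of_cyclic hp₂ hperf hc₂, noIdx_of_lt hp₂ hp₁ x₁ hx₁ h⟩

theorem fit_of_not_dvd {S : Type u} [Group S] [Finite S] [IsSimpleGroup S] (hna : ¬ ∀ a b : S, a * b = b * a)
    {p : ℕ} (hp : p.Prime) (hd : p ∣ Nat.card S) (hc : ∀ P : Sylow p S, IsCyclic P)
    (h : ¬ Nat.card S ∣ (p ^ (Nat.card S).factorization p).factorial) : Fit.{u, v} S :=
  ⟨p, hp, hd, noExt_of_cyclic hp (commutator_eq_top hna) hc, noIdx_of_not_dvd hp h⟩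

/-- Sylow subgroups of prime order are cyclic. -/
theorem cyclic_of_factorization_le_one {S : Type u} [Group S] [Finite S] {p : ℕ} (hp : p.Prime)
    (h : (Nat.card S).factorization p ≤ 1) (P : Sylow p S) : IsCyclic P := by
  have : Fact p.Prime := ⟨hp⟩
  have h1 := P.card_eq_multiplicity
  rcases Nat.lt_or_ge ((Nat.card S).factorization p) 1 with h2 | h2
  · have h3 : (Nat.card S).factorization p = 0 := by omega
    rw [h3, pow_zero] at h1
    have : Subsingleton P := (Nat.card_eq_one_iff_unique.1 h1).1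
    exact isCyclic_of_subsingleton
  · have h3 : (Nat.card S).factorization p = 1 := by omega
    rw [h3, pow_one] at h1
    exact isCyclic_of_prime_card h1

end Cfsg.Agent.H682.CT
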