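import Cfsg.Agent.H410.TwoTransRGD
import Cfsg.Agent.Nodes.HasRGD
import Cfsg.Agent.H682.CT.Crit

/-!
# Subgroups of prime power index in groups with a root group datum: at most one prime

`S` a finite simple group with a root group datum of characteristic `r`. For two different primes `p₁, p₂ ≠ r` one of
`NoIdx p₁ S`, `NoIdx p₂ S` holds: otherwise `S` would be the product of two proper subgroups containing `U`, and then the
Weyl group would be the product of two proper parabolic subgroups.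
-/

set_option autoImplicit false

namespace Cfsg.Agent.H682.CT.TwoPrime

open CoxeterSystem Cfsg.Agent.ChevalleyStructure.CoxeterGeom Cfsg.Agent.Tits.Roots Cfsg.Agent.Tits.Core
  Cfsg.Agent.Tits.Exchange Cfsg.Agent.Nodes.Reps Cfsg.Agent.Nodes.BNOf Cfsg.Agent.Nodes.Bruhat
  Cfsg.Agent.Nodes.RGDLib Cfsg.Agent.H410.CoxTwo Cfsg.Agent.H410.TwoTransRGD

section Cox

variable {I W : Type*} [Fintype I] [DecidableEq I] [Group W] [Fintype W] {M : CoxeterMatrix I}
  (cs : CoxeterSystem M W) {A : I → I → ℤ} (h : IsCartan M A)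

include h

/-- a connected finite Weyl group is not a product of two proper parabolic subgroups -/
theorem exists_ne_mul (hconn : ∀ J : Set I, J.Nonempty → J ≠ Set.univ → ∃ a ∈ J, ∃ b, b ∉ J ∧ M a b ≠ 2) (s t : I) :
    ∃ w : W, ∀ v₁ ∈ WJ cs {s}ᶜ, ∀ v₂ ∈ WJ cs {t}ᶜ, w ≠ v₁ * v₂ := by
  by_contra hcon
  push Not at hcon
  set l := lam cs h t with hl
  have h1 : ∀ w, rep cs h w l s = l s := by
    intro w
    obtain ⟨v₁, hv₁, v₂, hv₂, rfl⟩ := hcon w
    rw [rep_mul_apply, lam_fix cs h hv₂, rep_apply_self cs h hv₁]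
  set K : Set I := {k | ∀ w, pairing A k (rep cs h w l) = 0} with hK
  have hs : s ∈ K := by
    intro w
    have h2 := h1 (cs.simple s * w)
    rw [rep_mul_apply, rep_simple_apply_self, h1 w] at h2
    linarith
  have hKu : K = Set.univ := by
    by_contra hne
    obtain ⟨a, ha, b, hb, hab⟩ := hconn K ⟨s, hs⟩ hne
    apply hb
    intro w
    have hne' : a ≠ b := by
      rintro rfl
      exact hb ha
    have h3 := ha (cs.simple b * w)
    rw [rep_mul_apply, pairing_simple (h := h) b a, ha w, zero_sub, neg_eq_zero, mul_eq_zero] at h3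
    rcases h3 with h3 | h3
    · exact h3
    · exfalso
      rcases h.rel a b hne' with h4 | h4 | h4 | h4
      · exact hab h4.1
      all_goals omega
  have h5 := pairing_lam_self cs h t
  have h6 : t ∈ K := by rw [hKu]; exact Set.mem_univ _
  have h7 := h6 1
  rw [map_one, Module.End.one_apply] at h7
  rw [h7] at h5
  exact lt_irrefl _ h5

end Cox

section RGD

variable {I W Y : Type*} [Fintype I] [DecidableEq I] [Group W] [Group Y] {M : CoxeterMatrix I}
  {cs : CoxeterSystem M W} {A : I → I → ℤ} {h : IsCartan M A} {p : ℕ} {T : Subgroup Y} {n : I → Y}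
  {X : (I → ℤ) → Subgroup Y}

/-- A simple group is not a product of two proper subgroups containing `U`. -/
theorem exists_ne_mul_of_le (R : RGD cs h p T n X) [Finite W] [IsSimpleGroup Y] (hc : Subgroup.center Y = ⊥)
    (hG : RGD.Sup X {x | IsRoot cs h x} = ⊤) {H₁ H₂ : Subgroup Y} (hU₁ : RGD.Sup X (RGD.Pos cs h) ≤ H₁)
    (hU₂ : RGD.Sup X (RGD.Pos cs h) ≤ H₂) (h₁ : H₁ ≠ ⊤) (h₂ : H₂ ≠ ⊤) : ∃ g : Y, ∀ a ∈ H₁, ∀ b ∈ H₂, g ≠ a * b := by
  classical
  have := Fintype.ofFinite W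
  obtain ⟨s, hs⟩ := exists_not_mem R hG hU₁ h₁
  obtain ⟨t, ht⟩ := exists_not_mem R hG hU₂ h₂
  obtain ⟨w, hw⟩ := exists_ne_mul cs h (conn_of_simple R hG hc) s t
  obtain ⟨g, hg⟩ := exists_rp cs R.nsys w
  refine ⟨g, fun a ha b hb hgab => ?_⟩
  have hsub : ∀ {H : Subgroup Y} {s : I}, s ∉ JH X H → WJ cs (JH X H) ≤ WJ cs {s}ᶜ := fun {H s} hs =>
    WJ_mono cs fun j hj hjs => hs (by
      have : j = s := hjs
      rwa [this] at hj)
  have hcell : ∀ g : Y, ∃ u, Cell R.nsys cs h X u g := fun g =>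
    (mem_GG R).1 (by rw [GG_eq_top_of_gen R hG]; exact Subgroup.mem_top g)
  obtain ⟨v₁, hv₁⟩ := hcell a
  obtain ⟨v₂, hv₂⟩ := hcell b
  have h1 := cell_mem R hU₁ hv₁ ha
  have h2 := cell_mem R hU₂ hv₂ hb
  obtain ⟨v', hv', hc'⟩ := mul_cell R h1 hv₁ hv₂
  rw [← hgab] at hc'
  exact hw v' (hsub hs hv') v₂ (hsub ht h2) (Cell.unique R (cell_of_rp hg) hc')

end RGD

/-- subgroups of coprime indices -/
theorem exists_mul_of_coprime {G : Type*} [Group G] [Finite G] {H K : Subgroup G} (hc : H.index.Coprime K.index)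
    (g : G) : ∃ a ∈ H, ∃ b ∈ K, g = a * b := by
  have h1 : K.relIndex H = K.index := by
    apply le_antisymm
    · have h3 := Subgroup.relIndex_le_of_le_right (H := K) (K := H) (L := ⊤) le_top
        (by rw [Subgroup.relIndex_top_right]; exact Subgroup.FiniteIndex.index_ne_zero)
      rwa [Subgroup.relIndex_top_right] at h3
    · have h2 : (H ⊓ K).relIndex H * H.index = (H ⊓ K).index := Subgroup.relIndex_mul_index inf_le_left
      have h3 : (H ⊓ K).relIndex K * K.index = (H ⊓ K).index := Subgroup.relIndex_mul_index inf_le_right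
      rw [Subgroup.inf_relIndex_left] at h2
      have h4 : K.index ∣ K.relIndex H * H.index := by
        rw [h2, ← h3]; exact dvd_mul_left _ _
      have h5 := hc.symm.dvd_of_dvd_mul_right h4
      refine Nat.le_of_dvd (Nat.pos_of_ne_zero ?_) h5
      exact Subgroup.FiniteIndex.index_ne_zero
  -- the orbit of `H` on the cosets of `K`
  have h2 : (MulAction.orbit H ((1 : G) : G ⧸ K)).ncard = K.index := by
    rw [← h1, ← MulAction.index_stabilizer]
    unfold Subgroup.relIndex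
    congr 1
    ext x
    rw [MulAction.mem_stabilizer_iff, Subgroup.mem_subgroupOf]
    change (x : G) • ((1 : G) : G ⧸ K) = ((1 : G) : G ⧸ K) ↔ _
    rw [MulAction.Quotient.smul_coe, smul_eq_mul, mul_one, QuotientGroup.eq]
    simp
  have h3 : MulAction.orbit H ((1 : G) : G ⧸ K) = Set.univ := by
    apply Set.eq_of_subset_of_ncard_le (Set.subset_univ _)
    rw [Set.ncard_univ, h2]
    rfl
  have h4 : (g : G ⧸ K) ∈ MulAction.orbit H ((1 : G) : G ⧸ K) := by rw [h3]; trivial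
  obtain ⟨a, ha⟩ := h4
  have h5 : (((a : G) : G) : G ⧸ K) = (g : G ⧸ K) := by
    rw [← ha]
    change _ = (a : G) • ((1 : G) : G ⧸ K)
    rw [MulAction.Quotient.smul_coe, smul_eq_mul, mul_one]
  rw [QuotientGroup.eq] at h5
  exact ⟨a, a.2, (a : G)⁻¹ * g, h5, by group⟩

/-- an `r`-subgroup lies in a conjugate of each subgroup of index prime to `r` -/
theorem exists_conj_le {G : Type*} [Group G] [Finite G] {r : ℕ} [Fact r.Prime] {U H : Subgroup G} (hU : IsPGroup r U)
    (hH : ¬ r ∣ H.index) : ∃ g : G, U ≤ H.map (MulAut.conj g).toMonoidHom := by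
  obtain ⟨x, hx⟩ := hU.nonempty_fixed_point_of_prime_not_dvd_card (G ⧸ H) (by rwa [← Subgroup.index_eq_card])
  obtain ⟨g, rfl⟩ := QuotientGroup.mk_surjective x
  refine ⟨g, fun u hu => ?_⟩
  have h1 := hx ⟨u, hu⟩
  change u • (g : G ⧸ H) = _ at h1
  rw [MulAction.Quotient.smul_coe, smul_eq_mul, eq_comm, QuotientGroup.eq] at h1
  refine ⟨g⁻¹ * u * g, ?_, by simp [mul_assoc]⟩
  rw [← mul_assoc] at h1
  exact h1

theorem index_conj {G : Type*} [Group G] (H : Subgroup G) (g : G) :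
    (H.map (MulAut.conj g).toMonoidHom).index = H.index := by
  rw [Subgroup.index_map_of_bijective (MulAut.conj g).bijective]

variable {S : Type*} [Group S] [Finite S] [IsSimpleGroup S]

/-- **At most one prime different from the characteristic.** -/
theorem noIdx_or (hc : Subgroup.center S = ⊥) {r : ℕ} (hr : r.Prime) (hS : Nodes.RGDChev.HasRGD r S) {p₁ p₂ : ℕ}
    (hp₁ : p₁.Prime) (hp₂ : p₂.Prime) (hne : p₁ ≠ p₂) (h₁ : p₁ ≠ r) (h₂ : p₂ ≠ r) : NoIdx p₁ S ∨ NoIdx p₂ S := by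
  by_contra hcon
  push Not at hcon
  obtain ⟨hn₁, hn₂⟩ := hcon
  unfold NoIdx at hn₁ hn₂
  push Not at hn₁ hn₂
  obtain ⟨H₁, k₁, hi₁, ht₁⟩ := hn₁
  obtain ⟨H₂, k₂, hi₂, ht₂⟩ := hn₂
  obtain ⟨l, M, A, h, T, n, X, hW, R, hX⟩ := hS
  have : Fact r.Prime := ⟨hr⟩
  have hU : IsPGroup r ↥(RGD.Sup X (RGD.Pos M.toCoxeterSystem h)) := R.isPGroup_Upos
  have key : ∀ (H : Subgroup S) (p k : ℕ), p.Prime → p ≠ r → H.index = p ^ k → ¬ r ∣ H.index := by
    intro H p k hp hpr hi hd
    rw [hi] at hd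
    exact hpr ((Nat.prime_dvd_prime_iff_eq hr hp).1 (hr.dvd_of_dvd_pow hd)).symm
  obtain ⟨g₁, hg₁⟩ := exists_conj_le hU (key H₁ p₁ k₁ hp₁ h₁ hi₁)
  obtain ⟨g₂, hg₂⟩ := exists_conj_le hU (key H₂ p₂ k₂ hp₂ h₂ hi₂)
  have hnt : ∀ (H : Subgroup S) (g : S), H ≠ ⊤ → H.map (MulAut.conj g).toMonoidHom ≠ ⊤ := by
    intro H g hH h0
    apply hH
    rw [← Subgroup.index_eq_one, ← index_conj H g, h0, Subgroup.index_top]
  obtain ⟨x, hx⟩ := exists_ne_mul_of_le R hc hX hg₁ hg₂ (hnt H₁ g₁ ht₁) (hnt H₂ g₂ ht₂)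
  have hcop : (H₁.map (MulAut.conj g₁).toMonoidHom).index.Coprime (H₂.map (MulAut.conj g₂).toMonoidHom).index := by
    rw [index_conj, index_conj, hi₁, hi₂]
    exact Nat.Coprime.pow _ _ ((Nat.coprime_primes hp₁ hp₂).2 hne)
  obtain ⟨a, ha, b, hb, hab⟩ := exists_mul_of_coprime hcop x
  exact hx a ha b hb hab

end Cfsg.Agent.H682.CT.TwoPrime
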