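import Cfsg.Agent.H682.CT.TwoPrime
import Cfsg.Agent.H410.TwFFour

/-!
# Subgroups of index prime to the characteristic, rank two; the groups `²F₄(q)`

* `card_dvd_rank_two` : `S = {s, t}`: the number `|G : B|` divides `|G : H|` or `|G : H| (1 + r ^ k)`;
* `noIdx_twF4` : `²F₄(q)` has no proper subgroup of `p`-power index for `p > 5`.

The proof of the first one is that of helper410 (`H410.Panel.card_dvd_rank_two`) for prime degrees.
-/

set_option autoImplicit false
set_option linter.unusedSectionVars false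

namespace Cfsg.Agent.H682.CT.RankTwo

open Cfsg Cfsg.Agent.Tits.Core Cfsg.Agent.Tits.Core.Bldg Cfsg.Agent.Tits.Exchange Cfsg.Agent.Tits
open Cfsg.Agent.FixBN Cfsg.Agent.Tits.OfBN Cfsg.Agent.Schreier.BNSch
open Cfsg.Agent.Omega.ML.LieRow Cfsg.Agent.H410.Panel

section BN

variable {K : Type*} [Group K] {P : Cfsg.BNPair K} {r : ℕ} {U : Subgroup K}

theorem card_dvd_rank_two [Finite K] [IsSimpleGroup K] [hr : Fact r.Prime] (S : Split P r U) {s t : K}
    (hS : P.S = {s, t}) {H₀ : Subgroup K} (hH₀ : H₀ ≠ ⊤) (hdvd : ¬ r ∣ H₀.index) :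
    Nat.card (K ⧸ P.B) ∣ H₀.index ∨ ∃ k, Nat.card (K ⧸ P.B) ∣ H₀.index * (1 + r ^ k) := by
  have hN : ((P.B ⊓ P.N).subgroupOf P.N).Normal := normal_subgroupOf P
  obtain ⟨M, cs, hcs⟩ := S0320.result P
  have hI : Finite P.S := OfBN.finite_I (Equiv.refl P.S)
  have hIn : Nonempty P.S := ⟨⟨s, by rw [hS]; exact Set.mem_insert _ _⟩⟩
  set Sy := OfBN.sys (Equiv.refl P.S) cs hcs S with hSy
  have hth := thick P (Equiv.refl P.S) cs hcs
  set c : K ⧸ P.B := QuotientGroup.mk 1 with hc
  obtain ⟨g, hα⟩ := TwoPrime.exists_conj_le (Sy.isP c) hdvd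
  set H := H₀.map (MulAut.conj g).toMonoidHom with hH
  have hindex : H.index = H₀.index := TwoPrime.index_conj H₀ g
  have htop : H ≠ ⊤ := by
    intro h1
    apply hH₀
    rw [← Subgroup.index_eq_one, ← hindex, h1, Subgroup.index_top]
  set J := tp (bldg P (Equiv.refl P.S) cs hcs) H c with hJ
  have hJ1 : J ≠ Set.univ := fun h1 => htop (eq_top_of_tp Sy hth hα h1)
  have horb := orbit_eq Sy hth hα
  rw [← hJ] at horb
  set O := (bldg P (Equiv.refl P.S) cs hcs).Res J c with hO
  -- the size of the orbit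
  have hsize : Nat.card O = 1 ∨ ∃ k, Nat.card O = 1 + r ^ k := by
    by_cases hJ0 : J = ∅
    · left
      rw [hO, hJ0]
      have : (bldg P (Equiv.refl P.S) cs hcs).Res ∅ c = {c} := by
        ext y
        rw [Set.mem_singleton_iff]
        constructor
        · intro hy
          have h1 : (bldg P (Equiv.refl P.S) cs hcs).δ c y ∈ WJ cs ∅ := hy
          unfold WJ at h1
          rw [Set.image_empty, Subgroup.closure_empty, Subgroup.mem_bot] at h1
          exact ((Bldg.eq_one _ _ _).1 h1).symm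
        · rintro rfl
          show (bldg P (Equiv.refl P.S) cs hcs).δ c c ∈ WJ cs ∅
          rw [(Bldg.eq_one _ _ _).2 rfl]
          exact one_mem _
      rw [this]
      simp
    · right
      obtain ⟨i, hi⟩ := Set.nonempty_iff_ne_empty.2 hJ0
      have hJi : J = {i} := by
        ext j
        rw [Set.mem_singleton_iff]
        constructor
        · intro hj
          by_contra hji
          apply hJ1
          rw [Set.eq_univ_iff_forall]
          intro k
          have hmem : ∀ x : P.S, (x : K) = s ∨ (x : K) = t := fun x => by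
            have h1 : (x : K) ∈ ({s, t} : Set K) := by rw [← hS]; exact x.2
            rwa [Set.mem_insert_iff, Set.mem_singleton_iff] at h1
          have hk := hmem k
          have hi2 := hmem i
          have hj2 := hmem j
          have hne' : (j : K) ≠ i := fun h => hji (Subtype.ext h)
          have : (k : K) = i ∨ (k : K) = j := by
            rcases hk with h1 | h1 <;> rcases hi2 with h2 | h2 <;> rcases hj2 with h3 | h3 <;>
              simp_all
          rcases this with h1 | h1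
          · rw [Subtype.ext h1]; exact hi
          · rw [Subtype.ext h1]; exact hj
        · rintro rfl
          exact hi
      obtain ⟨k, hk⟩ := card_panel Sy hth i c
      refine ⟨k, ?_⟩
      rw [hO, hJi, ← Pan_eq_Res]
      exact hk
  -- counting
  have hcount : Nat.card (K ⧸ P.B) ∣ H₀.index * Nat.card O := by
    have h1 : Nat.card O = (P.B.subgroupOf H).index := by
      rw [← horb, Nat.card_coe_set_eq]
      refine (MulAction.index_stabilizer (G := H) (x := c)).symm.trans ?_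
      congr 1
      ext g
      rw [MulAction.mem_stabilizer_iff, Subgroup.mem_subgroupOf]
      have : (g : K) • (QuotientGroup.mk 1 : K ⧸ P.B) = QuotientGroup.mk 1 ↔ (1 : K)⁻¹ * (g : K) * 1 ∈ P.B :=
        OfBN.smul_mk_eq
      rw [inv_one, one_mul, mul_one] at this
      exact this
    have h2 : (P.B ⊓ H).index = (P.B.subgroupOf H).index * H.index := by
      have h3 := Subgroup.relIndex_mul_index (inf_le_right : P.B ⊓ H ≤ H)
      rw [Subgroup.inf_relIndex_right] at h3
      exact h3.symm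
    rw [h1, ← hindex, mul_comm, ← h2]
    exact Subgroup.index_dvd_of_le inf_le_left
  rcases hsize with h1 | ⟨k, h1⟩
  · left
    rwa [h1, mul_one] at hcount
  · right
    exact ⟨k, by rwa [h1] at hcount⟩

end BN

open Cfsg.Agent.H410.TwFFour in
/-- **The groups `²F₄(q)`.** -/
theorem noIdx_twF4 {F : Type*} [Field F] [Fintype F] {m : ℕ} (hm : 1 ≤ m) (hF : Fintype.card F = 2 ^ (2 * m + 1))
    [IsSimpleGroup ↥(Cfsg.Lie.twistedF4 F (2 ^ m))] {p : ℕ} (hp : p.Prime) (h5 : 5 < p) :
    NoIdx p ↥(Cfsg.Lie.twistedF4 F (2 ^ m)) := by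
  intro H k hH
  by_contra hne
  have hfin : Finite ↥(Cfsg.Lie.twistedF4 F (2 ^ m)) := by
    have : Finite (GL Cfsg.Lie.chevF4.Idx F) := inferInstance
    infer_instance
  have : Fact (Nat.Prime 2) := ⟨Nat.prime_two⟩
  obtain ⟨Q, U, s, t, hsplit, hS, hexp⟩ := exists_split hm hF
  have hcard := S1068.result hF
  set q : ℕ := 2 ^ (2 * m + 1) with hq
  have hq3 : q % 3 = 2 := mod_three m
  have hq5 : q % 5 = 2 ∨ q % 5 = 3 := mod_five m
  have hq8 : 8 ≤ q := by
    calc 8 = 2 ^ 3 := by norm_num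
      _ ≤ 2 ^ (2 * m + 1) := Nat.pow_le_pow_right two_pos (by omega)
  have hB3 : ¬ 3 ∣ Nat.card Q.B := by
    intro h1
    rcases prime_dvd_B hsplit hexp Nat.prime_three h1 with h2 | h2
    · omega
    · omega
  have hB5 : ¬ 5 ∣ Nat.card Q.B := by
    intro h1
    rcases prime_dvd_B hsplit hexp Nat.prime_five h1 with h2 | h2
    · omega
    · omega
  have hidx : Nat.card Q.B * Nat.card (↥(Cfsg.Lie.twistedF4 F (2 ^ m)) ⧸ Q.B) = q ^ 12 * (q - 1) * (q ^ 3 + 1) * (q ^ 4 - 1) * (q ^ 6 + 1) := by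
    rw [← hcard]
    exact Subgroup.card_mul_index Q.B
  have h3 : 3 ∣ q ^ 12 * (q - 1) * (q ^ 3 + 1) * (q ^ 4 - 1) * (q ^ 6 + 1) := by
    have h1 : 3 ∣ q ^ 3 + 1 := by
      have h3 : (q ^ 3 + 1) % 3 = 0 := by
        rw [Nat.add_mod, Nat.pow_mod, hq3]
      omega
    exact ((h1.mul_left _).mul_right _).mul_right _
  have h5' : 5 ∣ q ^ 12 * (q - 1) * (q ^ 3 + 1) * (q ^ 4 - 1) * (q ^ 6 + 1) := by
    have h1 : 5 ∣ q ^ 4 - 1 := by
      have h3 : q ^ 4 % 5 = 1 := by
        rcases hq5 with h2 | h2 <;> rw [Nat.pow_mod, h2]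
      omega
    exact (h1.mul_left _).mul_right _
  have hn : ∀ {ℓ : ℕ}, ℓ.Prime → ¬ ℓ ∣ Nat.card Q.B → ℓ ∣ q ^ 12 * (q - 1) * (q ^ 3 + 1) * (q ^ 4 - 1) * (q ^ 6 + 1) →
      ℓ ∣ Nat.card (↥(Cfsg.Lie.twistedF4 F (2 ^ m)) ⧸ Q.B) := by
    intro ℓ hℓ h1 h2
    rw [← hidx] at h2
    exact ((Nat.Prime.coprime_iff_not_dvd hℓ).2 h1).dvd_of_dvd_mul_left h2
  have h3' := hn Nat.prime_three hB3 h3
  have h5'' := hn Nat.prime_five hB5 h5'
  have key : ∀ {ℓ : ℕ}, ℓ.Prime → ℓ ≤ 5 → ∀ c, ℓ ∣ H.index * c → ℓ ∣ c := by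
    intro ℓ hℓ hl c hd
    rcases (Nat.Prime.dvd_mul hℓ).1 hd with h | h
    · rw [hH] at h
      have := (Nat.prime_dvd_prime_iff_eq hℓ hp).1 (hℓ.dvd_of_dvd_pow h)
      omega
    · exact h
  have hd2 : ¬ 2 ∣ H.index := by
    intro h
    rw [hH] at h
    have := (Nat.prime_dvd_prime_iff_eq Nat.prime_two hp).1 (Nat.prime_two.dvd_of_dvd_pow h)
    omega
  rcases card_dvd_rank_two hsplit hS hne hd2 with h1 | ⟨j, h1⟩
  · have := key Nat.prime_three (by norm_num) 1 (by rw [mul_one]; exact h3'.trans h1)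
    omega
  · exact not_both j ⟨key Nat.prime_three (by norm_num) _ (h3'.trans h1), key Nat.prime_five le_rfl _ (h5''.trans h1)⟩

end Cfsg.Agent.H682.CT.RankTwo
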