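import Cfsg.Agent.H682.CT.Exc
import Cfsg.Agent.H682.CT.RankTwo
import Cfsg.Agent.S1068
import Cfsg.Agent.S2114

/-!
# `Fit` for the groups `²F₄(q)`
-/

set_option autoImplicit false

namespace Cfsg.Agent.H682.CT

open Arith

universe u v w

variable {S : Type u} [Group S] [Finite S] [IsSimpleGroup S]

theorem fit_2f4 (hna : ¬ ∀ a b : S, a * b = b * a) (h : Cfsg.Lie.Iso2F4 S) : Fit.{u, v} S := by
  obtain ⟨K, _, _, m, hm, hK, ⟨e⟩⟩ := h
  have hcard := Cfsg.Agent.S1068.result hK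
  have : Finite ↥(Cfsg.Lie.twistedF4 K (2 ^ m)) := Finite.of_equiv S e.toEquiv
  have : IsSimpleGroup ↥(Cfsg.Lie.twistedF4 K (2 ^ m)) := isSimpleGroup_of_equiv e
  have hna' : ¬ ∀ a b : ↥(Cfsg.Lie.twistedF4 K (2 ^ m)), a * b = b * a := by
    intro h
    apply hna
    intro a b
    apply e.injective
    rw [map_mul, map_mul]
    exact h _ _
  set q := 2 ^ (2 * m + 1) with hq
  have hq8 : 8 ≤ q := by
    calc 8 = 2 ^ 3 := by norm_num
      _ ≤ 2 ^ (2 * m + 1) := Nat.pow_le_pow_right two_pos (by omega)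
  have hq2 : 2 ≤ q ^ 2 - 1 := by
    have : 2 ^ 2 ≤ q ^ 2 := Nat.pow_le_pow_left (by omega) 2
    omega
  have h1 : 1 ≤ q ^ 2 := Nat.one_le_pow _ _ (by omega)
  obtain ⟨p, hp, hd, h5⟩ := exists_three (x := q ^ 2 - 1) hq2
  have hp5 : p ≠ 5 := by
    rintro rfl
    have h6 := cast_six h1 hd
    have h7 : ∀ x : ZMod 5, (x ^ 2) ^ 2 - x ^ 2 + 1 ≠ 0 := by decide
    apply h7 (q : ZMod 5)
    push_cast at h6
    exact h6
  have hN : NoIdx p ↥(Cfsg.Lie.twistedF4 K (2 ^ m)) := RankTwo.noIdx_twF4 hm hK hp (by omega)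
  have hE : NoExt.{0, v} p ↥(Cfsg.Lie.twistedF4 K (2 ^ m)) :=
    noExt_of_mult' hp (commutator_eq_top hna') (Cfsg.Agent.S2114.result hm hK) (one_not_dvd hp)
  refine Fit.congr e.symm ⟨p, hp, ?_, hE, hN⟩
  rw [hcard]
  have h2 := six_dvd'' (x := q ^ 2) h1
  have h3 : (q ^ 2) ^ 3 + 1 = q ^ 6 + 1 := by ring
  exact (hd.trans (h3 ▸ h2)).mul_left _

end Cfsg.Agent.H682.CT
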