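import Cfsg.Agent.H682.CT.ExcTw
import Cfsg.Agent.H682.CT.ExcF4
import Cfsg.Agent.H622.CT.RankOne
import Cfsg.Agent.H622.CT.Classical
import Cfsg.Agent.H621.CT.Orth

/-!
# Every known non-abelian finite simple group is `Fit`
-/

set_option autoImplicit false

namespace Cfsg.Agent.H682.CT

open Cfsg

universe u v

theorem fit_all (T : OrdDiv.OrderTable.{u}) {S : Type u} [Group S] [Finite S] [IsSimpleGroup S]
    (hna : ¬ ∀ a b : S, a * b = b * a) (hk : IsKnownSimple' S) : Fit.{u, v} S := by
  rcases hk with h | h | h | h | h | h | h | h | h | h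
  · exfalso
    have : Fact (Nat.card S).Prime := ⟨h⟩
    have : IsCyclic S := isCyclic_of_prime_card rfl
    exact hna fun a b => IsCyclic.commGroup.mul_comm a b
  · obtain ⟨n, hn, ⟨e⟩⟩ := h
    exact H622.CT.fit_alternating hna hn e
  · obtain ⟨F, _, _, n, hn, h2, ⟨e⟩⟩ := h
    by_cases h3 : n = 2
    · subst h3
      exact H622.CT.fit_psl2 hna (h2 rfl) e
    · exact H622.CT.fit_psl hna (by omega) e
  · obtain ⟨F, _, _, m, hm, h2, ⟨e⟩⟩ := h
    exact H622.CT.fit_psp hna hm h2 e
  · obtain ⟨F, _, _, n, q, hF, hn, h32, ⟨e⟩⟩ := h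
    exact H622.CT.fit_psu hna hF hn h32 e
  · exact H621.CT.fit_pomega_odd hna h
  · exact H621.CT.fit_pomega_plus hna h
  · exact H621.CT.fit_pomega_minus hna h
  · rcases h with h | h | h | h | h | h | h | h | h | h | h
    · exact fit_g2 hna h
    · exact fit_f4 hna h
    · exact fit_e6 hna h
    · exact fit_e7 hna h
    · exact fit_e8 hna h
    · exact fit_2e6 hna h
    · exact fit_3d4 hna h
    · exact H622.CT.fit_sz T hna h
    · exact fit_ree hna h
    · exact fit_2f4 hna h
    · exact H622.CT.fit_tits T hna h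
  · exact H622.CT.fit_sporadic T hna h

end Cfsg.Agent.H682.CT
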