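import Mathlib

/-!
# Prime divisors of values of small cyclotomic polynomials
-/

set_option autoImplicit false

namespace Cfsg.Agent.H682.CT.Arith

theorem exists_prime_ne {n c : ℕ} (hc : c.Prime) (hn : c < n) (h : ¬ c ^ 2 ∣ n) : ∃ p, p.Prime ∧ p ∣ n ∧ p ≠ c := by
  by_contra hcon
  push Not at hcon
  have h0 : n ≠ 0 := by omega
  have h2 := Nat.eq_prime_pow_of_unique_prime_dvd h0 (fun {d} hd hd' => hcon d hd hd')
  have h4 : 2 ≤ n.primeFactorsList.length := by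
    by_contra h5
    have h6 : n.primeFactorsList.length ≤ 1 := by omega
    have h7 : c ^ n.primeFactorsList.length ≤ c ^ 1 := Nat.pow_le_pow_right hc.pos h6
    rw [pow_one] at h7
    omega
  apply h
  rw [h2]
  exact pow_dvd_pow c h4

/-- `x² + x + 1` has a prime divisor `≥ 5` for `x ≥ 2` -/
theorem exists_three {x : ℕ} (hx : 2 ≤ x) : ∃ p, p.Prime ∧ p ∣ x ^ 2 + x + 1 ∧ 5 ≤ p := by
  obtain ⟨p, hp, hd, h3⟩ := exists_prime_ne (n := x ^ 2 + x + 1) Nat.prime_three (by nlinarith) (by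
    intro h
    have h6 : (x ^ 2 + x + 1) % 9 ≠ 0 := by
      rw [Nat.add_mod, Nat.add_mod (x ^ 2), Nat.pow_mod]
      have : x % 9 < 9 := Nat.mod_lt _ (by norm_num)
      interval_cases (x % 9) <;> norm_num
    exact h6 (Nat.mod_eq_zero_of_dvd h))
  refine ⟨p, hp, hd, ?_⟩
  have h2 : p ≠ 2 := by
    rintro rfl
    have h6 : (x ^ 2 + x + 1) % 2 ≠ 0 := by
      rw [Nat.add_mod, Nat.add_mod (x ^ 2), Nat.pow_mod]
      have : x % 2 < 2 := Nat.mod_lt _ (by norm_num)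
      interval_cases (x % 2) <;> norm_num
    exact h6 (Nat.mod_eq_zero_of_dvd hd)
  have h4 : p ≠ 4 := by
    rintro rfl
    exact absurd hp (by norm_num)
  have := hp.two_le
  omega

/-- `x⁴ + 1` has a prime divisor `≥ 5` for `x ≥ 2` -/
theorem exists_eight {x : ℕ} (hx : 2 ≤ x) : ∃ p, p.Prime ∧ p ∣ x ^ 4 + 1 ∧ 5 ≤ p := by
  have hx4 : 2 ^ 4 ≤ x ^ 4 := Nat.pow_le_pow_left hx 4
  obtain ⟨p, hp, hd, h3⟩ := exists_prime_ne (n := x ^ 4 + 1) Nat.prime_two (by omega) (by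
    intro h
    have h6 : (x ^ 4 + 1) % 4 ≠ 0 := by
      rw [Nat.add_mod, Nat.pow_mod]
      have : x % 4 < 4 := Nat.mod_lt _ (by norm_num)
      interval_cases (x % 4) <;> norm_num
    exact h6 (Nat.mod_eq_zero_of_dvd h))
  refine ⟨p, hp, hd, ?_⟩
  have h2 : p ≠ 3 := by
    rintro rfl
    have h6 : (x ^ 4 + 1) % 3 ≠ 0 := by
      rw [Nat.add_mod, Nat.pow_mod]
      have : x % 3 < 3 := Nat.mod_lt _ (by norm_num)
      interval_cases (x % 3) <;> norm_num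
    exact h6 (Nat.mod_eq_zero_of_dvd hd)
  have h4 : p ≠ 4 := by
    rintro rfl
    exact absurd hp (by norm_num)
  have := hp.two_le
  omega

section

variable {p x : ℕ}

theorem cast_three (h : p ∣ x ^ 2 + x + 1) : (x : ZMod p) ^ 2 + x + 1 = 0 := by
  have := (ZMod.natCast_eq_zero_iff _ _).2 h
  push_cast at this
  exact this

theorem cast_six (hx : 1 ≤ x) (h : p ∣ (x - 1) ^ 2 + (x - 1) + 1) : (x : ZMod p) ^ 2 - x + 1 = 0 := by
  have := (ZMod.natCast_eq_zero_iff _ _).2 h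
  push_cast [Nat.cast_sub hx] at this
  linear_combination this

theorem cast_eight (h : p ∣ x ^ 4 + 1) : (x : ZMod p) ^ 4 + 1 = 0 := by
  have := (ZMod.natCast_eq_zero_iff _ _).2 h
  push_cast at this
  exact this

theorem not_dvd_three (hp : p.Prime) (h : p ∣ x ^ 2 + x + 1) : ¬ p ∣ x := by
  intro hx
  have h1 : p ∣ 1 := (Nat.dvd_add_right (dvd_add (dvd_pow hx two_ne_zero) hx)).1 h
  exact hp.one_lt.ne' (Nat.dvd_one.1 h1)

theorem not_dvd_six (hp : p.Prime) (hx : 1 ≤ x) (h : p ∣ (x - 1) ^ 2 + (x - 1) + 1) : ¬ p ∣ x := by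
  intro hd
  have : Fact p.Prime := ⟨hp⟩
  have h1 := cast_six hx h
  rw [(ZMod.natCast_eq_zero_iff _ _).2 hd] at h1
  norm_num at h1

theorem not_dvd_eight (hp : p.Prime) (h : p ∣ x ^ 4 + 1) : ¬ p ∣ x := by
  intro hx
  have h1 : p ∣ 1 := (Nat.dvd_add_right (dvd_pow hx four_ne_zero)).1 h
  exact hp.one_lt.ne' (Nat.dvd_one.1 h1)

theorem ne_three_six {p' : ℕ} (hp : p.Prime) (hx : 1 ≤ x) (h5 : 5 ≤ p) (h : p ∣ x ^ 2 + x + 1)
    (h' : p' ∣ (x - 1) ^ 2 + (x - 1) + 1) : p ≠ p' := by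
  rintro rfl
  have : Fact p.Prime := ⟨hp⟩
  have h1 := cast_three h
  have h2 := cast_six hx h'
  have h3 : (2 : ZMod p) * x = 0 := by linear_combination h1 - h2
  have h4 : (2 : ZMod p) ≠ 0 := by
    intro h0
    have : ((2 : ℕ) : ZMod p) = 0 := by exact_mod_cast h0
    have := Nat.le_of_dvd two_pos ((ZMod.natCast_eq_zero_iff _ _).1 this)
    omega
  rcases mul_eq_zero.1 h3 with h5 | h5
  · exact h4 h5
  · exact not_dvd_three hp h ((ZMod.natCast_eq_zero_iff _ _).1 h5)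

theorem ne_eight_twelve {p' : ℕ} (hp : p.Prime) (hx : 1 ≤ x) (h : p ∣ x ^ 4 + 1)
    (h' : p' ∣ (x ^ 2 - 1) ^ 2 + (x ^ 2 - 1) + 1) : p ≠ p' := by
  rintro rfl
  have : Fact p.Prime := ⟨hp⟩
  have h1 := cast_eight h
  have h2 := cast_six (x := x ^ 2) (Nat.one_le_pow _ _ hx) h'
  push_cast at h2
  have h3 : (x : ZMod p) ^ 2 = 0 := by linear_combination h1 - h2
  exact not_dvd_eight hp h ((ZMod.natCast_eq_zero_iff _ _).1 (pow_eq_zero_iff two_ne_zero |>.1 h3))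

theorem ne_three_twelve {p' : ℕ} (hp : p.Prime) (hx : 1 ≤ x) (h5 : 5 ≤ p) (h : p ∣ x ^ 2 + x + 1)
    (h' : p' ∣ (x ^ 2 - 1) ^ 2 + (x ^ 2 - 1) + 1) : p ≠ p' := by
  rintro rfl
  have : Fact p.Prime := ⟨hp⟩
  have h1 := cast_three h
  have h2 := cast_six (x := x ^ 2) (Nat.one_le_pow _ _ hx) h'
  push_cast at h2
  have h3 : (2 : ZMod p) * (x + 1) = 0 := by linear_combination h2 - ((x : ZMod p) ^ 2 - x - 1) * h1
  have h4 : (2 : ZMod p) ≠ 0 := by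
    intro h0
    have : ((2 : ℕ) : ZMod p) = 0 := by exact_mod_cast h0
    have := Nat.le_of_dvd two_pos ((ZMod.natCast_eq_zero_iff _ _).1 this)
    omega
  rcases mul_eq_zero.1 h3 with h5 | h5
  · exact h4 h5
  · have h6 : (1 : ZMod p) = 0 := by linear_combination h1 - (x : ZMod p) * h5
    exact one_ne_zero h6

end

section Dvd

variable {x : ℕ}

theorem three_dvd (hx : 1 ≤ x) : x ^ 2 + x + 1 ∣ x ^ 6 - 1 := by
  obtain ⟨y, rfl⟩ : ∃ y, x = y + 1 := ⟨x - 1, by omega⟩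
  refine ⟨y * (y + 2) * (y ^ 2 + y + 1), ?_⟩
  apply Nat.sub_eq_of_eq_add
  ring

theorem six_dvd (hx : 1 ≤ x) : (x - 1) ^ 2 + (x - 1) + 1 ∣ x ^ 6 - 1 := by
  obtain ⟨y, rfl⟩ : ∃ y, x = y + 1 := ⟨x - 1, by omega⟩
  refine ⟨y * (y + 2) * (y ^ 2 + 3 * y + 3), ?_⟩
  rw [Nat.add_sub_cancel]
  apply Nat.sub_eq_of_eq_add
  ring

theorem six_dvd' (hx : 1 ≤ x) : (x - 1) ^ 2 + (x - 1) + 1 ∣ x ^ 4 + x ^ 2 + 1 := by
  obtain ⟨y, rfl⟩ : ∃ y, x = y + 1 := ⟨x - 1, by omega⟩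
  refine ⟨y ^ 2 + 3 * y + 3, ?_⟩
  rw [Nat.add_sub_cancel]
  ring

theorem six_dvd'' (hx : 1 ≤ x) : (x - 1) ^ 2 + (x - 1) + 1 ∣ x ^ 3 + 1 := by
  obtain ⟨y, rfl⟩ : ∃ y, x = y + 1 := ⟨x - 1, by omega⟩
  refine ⟨y + 2, ?_⟩
  rw [Nat.add_sub_cancel]
  ring

theorem eight_dvd (hx : 1 ≤ x) : x ^ 4 + 1 ∣ x ^ 8 - 1 := by
  have h1 : 1 ≤ x ^ 4 := Nat.one_le_pow _ _ hx
  obtain ⟨y, hy⟩ : ∃ y, x ^ 4 = y + 1 := ⟨x ^ 4 - 1, by omega⟩
  refine ⟨y, ?_⟩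
  apply Nat.sub_eq_of_eq_add
  have : x ^ 8 = (x ^ 4) ^ 2 := by ring
  rw [this, hy]
  ring

end Dvd

end Cfsg.Agent.H682.CT.Arith
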