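import Cfsg.Agent.Characters.Core
import Cfsg.Agent.Characters.Central
import Cfsg.Agent.S0139
import Cfsg.Agent.H672.Over

/-!
# Characters vanishing off a subgroup on which they have constant absolute value
-/

set_option autoImplicit false
set_option linter.unusedSectionVars false

namespace Cfsg.Agent.H682.CT

open Subgroup Cfsg Cfsg.Agent.Characters.Core
open scoped ComplexConjugate commutatorElement

universe u

section norm

variable {G : Type u} [Group G] [Finite G] {χ : G → ℂ}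

theorem sum_normSq [Fintype G] (hχ : IsIrrCharacter G χ) : ∑ g : G, ‖χ g‖ ^ 2 = (Nat.card G : ℝ) := by
  have h1 := classInner_irr_self hχ
  rw [classInner_def] at h1
  have h2 : (Nat.card G : ℂ) ≠ 0 := card_ne_zero_complex
  have h3 : ∑ g : G, χ g * conj (χ g) = (Nat.card G : ℂ) := by
    rw [inv_mul_eq_iff_eq_mul₀ h2, mul_one] at h1
    exact h1
  have h4 : ∀ g : G, χ g * conj (χ g) = ((‖χ g‖ ^ 2 : ℝ) : ℂ) := by
    intro g
    rw [Complex.mul_conj, Complex.normSq_eq_norm_sq]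
  simp_rw [h4] at h3
  exact_mod_cast h3

variable {A : Subgroup G} {d : ℕ}

open scoped Classical in
theorem sum_subgroup [Fintype G] (hd : χ 1 = d) (hA : ∀ a ∈ A, ‖χ a‖ = ‖χ 1‖) :
    ∑ g : G with g ∈ A, ‖χ g‖ ^ 2 = (Nat.card A : ℝ) * d ^ 2 := by
  classical
  have h1 : ∀ g ∈ (Finset.univ.filter fun g : G => g ∈ A), ‖χ g‖ ^ 2 = (d : ℝ) ^ 2 := by
    intro g hg
    rw [hA g (Finset.mem_filter.1 hg).2, hd, Complex.norm_natCast]
  rw [Finset.sum_congr rfl h1, Finset.sum_const, nsmul_eq_mul]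
  congr 2
  rw [Nat.card_eq_fintype_card, Fintype.card_subtype]

theorem sq_mul_card_le (hχ : IsIrrCharacter G χ) (hd : χ 1 = d) (hA : ∀ a ∈ A, ‖χ a‖ = ‖χ 1‖) :
    d ^ 2 * Nat.card A ≤ Nat.card G := by
  classical
  have := Fintype.ofFinite G
  have h1 := sum_normSq hχ
  have h2 := sum_subgroup hd hA
  have h3 : ∑ g : G with g ∈ A, ‖χ g‖ ^ 2 ≤ ∑ g : G, ‖χ g‖ ^ 2 :=
    Finset.sum_le_sum_of_subset_of_nonneg (Finset.filter_subset _ _) fun _ _ _ => by positivity
  rw [h1, h2] at h3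
  have h4 : ((d ^ 2 * Nat.card A : ℕ) : ℝ) ≤ (Nat.card G : ℝ) := by push_cast; linarith
  exact_mod_cast h4

theorem vanish_of_eq (hχ : IsIrrCharacter G χ) (hd : χ 1 = d) (hA : ∀ a ∈ A, ‖χ a‖ = ‖χ 1‖)
    (he : d ^ 2 * Nat.card A = Nat.card G) {g : G} (hg : g ∉ A) : χ g = 0 := by
  classical
  have := Fintype.ofFinite G
  have h1 := sum_normSq hχ
  have h2 := sum_subgroup hd hA
  have h3 : ∑ g : G with g ∈ A, ‖χ g‖ ^ 2 + ∑ g : G with g ∉ A, ‖χ g‖ ^ 2 = ∑ g : G, ‖χ g‖ ^ 2 :=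
    Finset.sum_filter_add_sum_filter_not _ _ _
  have h4 : ((d ^ 2 * Nat.card A : ℕ) : ℝ) = (Nat.card G : ℝ) := by rw [he]
  have h5 : ∑ g : G with g ∉ A, ‖χ g‖ ^ 2 = 0 := by
    push_cast at h4
    linarith
  rw [Finset.sum_eq_zero_iff_of_nonneg fun _ _ => by positivity] at h5
  have h6 := h5 g (by simp [hg])
  simpa using h6

theorem eq_of_vanish (hχ : IsIrrCharacter G χ) (hd : χ 1 = d) (hA : ∀ a ∈ A, ‖χ a‖ = ‖χ 1‖)
    (hv : ∀ g, g ∉ A → χ g = 0) : d ^ 2 * Nat.card A = Nat.card G := by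
  classical
  have := Fintype.ofFinite G
  have h1 := sum_normSq hχ
  have h2 := sum_subgroup hd hA
  have h3 : ∑ g : G with g ∈ A, ‖χ g‖ ^ 2 + ∑ g : G with g ∉ A, ‖χ g‖ ^ 2 = ∑ g : G, ‖χ g‖ ^ 2 :=
    Finset.sum_filter_add_sum_filter_not _ _ _
  have h4 : ∑ g : G with g ∉ A, ‖χ g‖ ^ 2 = 0 := by
    refine Finset.sum_eq_zero fun g hg => ?_
    rw [hv g (Finset.mem_filter.1 hg).2]
    simp
  have h5 : ((d ^ 2 * Nat.card A : ℕ) : ℝ) = (Nat.card G : ℝ) := by
    push_cast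
    linarith
  exact_mod_cast h5

end norm

section scalar

variable {G : Type u} [Group G] [Finite G] {χ : G → ℂ}

/-- An element whose commutators lie in the kernel acts as a scalar. -/
theorem exists_scalar (hχ : IsIrrCharacter G χ) {z : G} (hz : ∀ g : G, χ ⁅g, z⁆ = χ 1) :
    ∃ w : ℂ, ‖w‖ = 1 ∧ ∀ g, χ (g * z) = w * χ g := by
  obtain ⟨n, ρ, hρ, rfl⟩ := hχ
  have h1 : ∀ g : G, ρ ⁅g, z⁆ = 1 := by
    intro g
    have h2 := (Cfsg.Agent.S0139.result ρ ⁅g, z⁆).1 (by rw [hz g, Representation.char_one])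
    exact h2
  obtain ⟨w, hw⟩ := Characters.Central.exists_smul_of_comm ρ hρ (ρ z) (by
    intro g
    have h3 : ⁅g, z⁆ * (z * g) = g * z := by rw [commutatorElement_def]; group
    rw [← map_mul, ← map_mul, ← h3, map_mul ρ ⁅g, z⁆, h1, one_mul])
  refine ⟨w, ?_, ?_⟩
  · have hpow : (ρ z) ^ (Nat.card G) = 1 := by
      rw [← map_pow, pow_card_eq_one', map_one]
    rw [hw, smul_pow, one_pow] at hpow
    have hpos := Characters.Central.finrank_pos_of_irr ρ hρ
    have : Nontrivial (Fin n → ℂ) := Module.nontrivial_of_finrank_pos hpos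
    obtain ⟨v, hv⟩ := exists_ne (0 : Fin n → ℂ)
    have h1 : w ^ Nat.card G • v = v := by
      have := congrArg (fun f : Module.End ℂ (Fin n → ℂ) => f v) hpow
      simpa using this
    have h2 : w ^ Nat.card G = 1 := by
      have h4 : (w ^ (Nat.card G) - 1) • v = 0 := by rw [sub_smul, one_smul, h1, sub_self]
      rcases smul_eq_zero.1 h4 with h | h
      · exact sub_eq_zero.1 h
      · exact absurd h hv
    exact Complex.norm_eq_one_of_pow_eq_one h2 Nat.card_pos.ne'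
  · intro g
    change LinearMap.trace ℂ _ (ρ (g * z)) = w * LinearMap.trace ℂ _ (ρ g)
    rw [map_mul, hw, mul_smul_comm, mul_one, map_smul, smul_eq_mul]

/-- elements of the kernel -/
theorem mul_of_ker (hχ : IsIrrCharacter G χ) {k : G} (hk : χ k = χ 1) (g : G) : χ (g * k) = χ g := by
  obtain ⟨n, ρ, hρ, rfl⟩ := hχ
  have h1 : ρ k = 1 := (Cfsg.Agent.S0139.result ρ k).1 (by rw [hk, Representation.char_one])
  change LinearMap.trace ℂ _ (ρ (g * k)) = LinearMap.trace ℂ _ (ρ g)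
  rw [map_mul, h1, mul_one]

theorem conj_of_ker (hχ : IsIrrCharacter G χ) {k : G} (hk : χ k = χ 1) (g : G) : χ (g * k * g⁻¹) = χ 1 := by
  rw [isIrr_isClassFunction hχ k g, hk]

theorem inv_of_ker (hχ : IsIrrCharacter G χ) {k : G} (hk : χ k = χ 1) : χ k⁻¹ = χ 1 := by
  have := mul_of_ker hχ hk k⁻¹
  rwa [inv_mul_cancel, eq_comm] at this

/-- central characters of constituents agree -/
theorem scalar_eq [Fintype G] {χ φ : G → ℂ} (h0 : classInner χ φ ≠ 0) {z : G} {w c : ℂ}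
    (hw : ∀ g, χ (g * z) = w * χ g) (hc : ∀ g, φ (g * z) = c * φ g) (hc1 : ‖c‖ = 1) : w = c := by
  have h1 : classInner χ φ = w * conj c * classInner χ φ := by
    have h5 : ∑ g : G, χ g * conj (φ g) = w * conj c * ∑ g : G, χ g * conj (φ g) := by
      refine (Equiv.sum_comp (Equiv.mulRight z) (fun g => χ g * conj (φ g))).symm.trans ?_
      rw [Finset.mul_sum]
      refine Finset.sum_congr rfl fun g _ => ?_
      rw [Equiv.coe_mulRight, hw, hc, map_mul]
      ring
    rw [classInner_def, mul_left_comm, ← h5]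
  have h2 : w * conj c = 1 := by
    have h3 : (w * conj c - 1) * classInner χ φ = 0 := by rw [sub_mul, one_mul, ← h1, sub_self]
    rcases mul_eq_zero.1 h3 with h | h
    · exact sub_eq_zero.1 h
    · exact absurd h h0
  have h3 : c * conj c = 1 := by
    rw [Complex.mul_conj, Complex.normSq_eq_norm_sq, hc1]
    norm_num
  have h4 : conj c ≠ 0 := by
    intro h
    rw [h, mul_zero] at h3
    exact zero_ne_one h3
  exact mul_right_cancel₀ h4 (h2.trans h3.symm)

end scalar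

end Cfsg.Agent.H682.CT
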