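import Cfsg.Agent.H682.CT.Defs
import Cfsg.Agent.H682.CT.Char
import Cfsg.Agent.OddOrderCharacters.PF9.Reducible

/-!
# The configuration for groups of central type, quotients

`Cfg p Q G` : `P` a Sylow `p`-subgroup of `G`, `ψ` an irreducible character of `P` vanishing off the normal subgroup
`Z` of `G`, `[G, Z] ≤ ker ψ`, and a normal subgroup `K` of `G` with a surjection `f : K → Q` whose kernel is
solvable, normal in `G` and contains `Z`.
-/

set_option autoImplicit false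
set_option linter.unusedSectionVars false

namespace Cfsg.Agent.H682.CT

open Subgroup Cfsg Cfsg.Agent.Characters.Core
open scoped commutatorElement

universe u v

/-- The configuration. -/
structure Cfg (p : ℕ) (Q : Type v) [Group Q] (G : Type u) [Group G] where
  P : Subgroup G
  Z : Subgroup G
  K : Subgroup G
  f : K →* Q
  ψ : P → ℂ
  hP : IsPGroup p P
  hPi : ¬ p ∣ P.index
  hZn : Z.Normal
  hZP : Z ≤ P
  hK : K.Normal
  hf : Function.Surjective f
  hR : ∀ (g : G) (k : K), f k = 1 → f ⟨g * k * g⁻¹, hK.conj_mem _ k.2 g⟩ = 1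
  hRs : Group.IsSolvable f.ker
  hZR : ∀ z ∈ Z, ∃ h : z ∈ K, f ⟨z, h⟩ = 1
  irr : IsIrrCharacter P ψ
  van : ∀ x : P, (x : G) ∉ Z → ψ x = 0
  cen : ∀ x : P, (∃ g : G, ∃ z ∈ Z, (x : G) = ⁅g, z⁆) → ψ x = ψ 1

variable {p : ℕ} {Q : Type v} [Group Q] {G : Type u} [Group G]

namespace Cfg

section quot

variable [Finite G] (c : Cfg p Q G) {G₁ : Type u} [Group G₁] (π : G →* G₁) (hπ : Function.Surjective π)
  (hk : ∀ x, π x = 1 → ∃ h : x ∈ c.K, c.f ⟨x, h⟩ = 1) (hψ : ∀ x : c.P, π x = 1 → c.ψ x = c.ψ 1)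

include hψ in
theorem exists_quot_ψ : ∃ χ' : c.P.map π → ℂ, IsIrrCharacter (c.P.map π) χ' ∧
    ∀ g : c.P, χ' (π.subgroupMap c.P g) = c.ψ g :=
  OddOrderCharacters.PF9.Reducible.exists_of_surjective (π.subgroupMap c.P) (π.subgroupMap_surjective c.P) c.irr
    fun g hg => hψ g (congrArg Subtype.val hg)

include hk in
theorem exists_quot_f : ∃ f₁ : c.K.map π →* Q, ∀ k : c.K, f₁ (π.subgroupMap c.K k) = c.f k := by
  refine ⟨(π.subgroupMap c.K).liftOfSurjective (π.subgroupMap_surjective c.K) ⟨c.f, ?_⟩, fun k => ?_⟩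
  · intro x hx
    rw [MonoidHom.mem_ker] at hx ⊢
    obtain ⟨_, h⟩ := hk x (congrArg Subtype.val hx)
    exact h
  · exact MonoidHom.liftOfRightInverse_comp_apply _ _ _ _ _

/-- The configuration in a quotient. -/
noncomputable def quot : Cfg p Q G₁ where
  P := c.P.map π
  Z := c.Z.map π
  K := c.K.map π
  f := Classical.choose (c.exists_quot_f π hk)
  ψ := Classical.choose (c.exists_quot_ψ π hψ)
  hP := c.hP.map π
  hPi := fun h => c.hPi (h.trans (index_map_dvd _ hπ))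
  hZn := c.hZn.map π hπ
  hZP := map_mono c.hZP
  hK := c.hK.map π hπ
  hf := by
    intro q
    obtain ⟨k, hk'⟩ := c.hf q
    exact ⟨π.subgroupMap c.K k, by rw [Classical.choose_spec (c.exists_quot_f π hk), hk']⟩
  hR := by
    intro g₁ k₁ h1
    obtain ⟨g, rfl⟩ := hπ g₁
    obtain ⟨k, rfl⟩ := π.subgroupMap_surjective c.K k₁
    have hf₁ := Classical.choose_spec (c.exists_quot_f π hk)
    rw [hf₁] at h1
    have h2 := c.hR g k h1
    have h3 : (⟨π g * (π.subgroupMap c.K k : G₁) * (π g)⁻¹,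
        (c.hK.map π hπ).conj_mem _ (π.subgroupMap c.K k).2 (π g)⟩ : c.K.map π) =
        π.subgroupMap c.K ⟨g * k * g⁻¹, c.hK.conj_mem _ k.2 g⟩ := by
      apply Subtype.ext
      show π g * π k * (π g)⁻¹ = π (g * k * g⁻¹)
      rw [map_mul, map_mul, map_inv]
    rw [h3, hf₁, h2]
  hRs := by
    have hf₁ := Classical.choose_spec (c.exists_quot_f π hk)
    have := c.hRs
    let φ : c.f.ker →* (Classical.choose (c.exists_quot_f π hk)).ker :=
      ((π.subgroupMap c.K).comp c.f.ker.subtype).codRestrict _ (by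
        intro x
        rw [MonoidHom.mem_ker, MonoidHom.comp_apply, hf₁]
        exact x.2)
    refine Group.isSolvable_of_surjective (f := φ) ?_
    rintro ⟨x₁, hx₁⟩
    obtain ⟨x, rfl⟩ := π.subgroupMap_surjective c.K x₁
    rw [MonoidHom.mem_ker, hf₁] at hx₁
    exact ⟨⟨x, hx₁⟩, rfl⟩
  hZR := by
    rintro _ ⟨z, hz, rfl⟩
    obtain ⟨h, h'⟩ := c.hZR z hz
    refine ⟨⟨z, h, rfl⟩, ?_⟩
    have hf₁ := Classical.choose_spec (c.exists_quot_f π hk)
    have := hf₁ ⟨z, h⟩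
    rw [h'] at this
    exact this
  irr := (Classical.choose_spec (c.exists_quot_ψ π hψ)).1
  van := by
    intro x₁ hx₁
    obtain ⟨x, rfl⟩ := π.subgroupMap_surjective c.P x₁
    rw [(Classical.choose_spec (c.exists_quot_ψ π hψ)).2]
    exact c.van x fun h => hx₁ ⟨x, h, rfl⟩
  cen := by
    rintro x₁ ⟨g₁, _, ⟨z, hz, rfl⟩, h⟩
    obtain ⟨g, rfl⟩ := hπ g₁
    have hmem : ⁅g, z⁆ ∈ c.P := c.hZP (by
      rw [commutatorElement_def]
      exact mul_mem (c.hZn.conj_mem z hz g) (inv_mem hz))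
    have h1 : x₁ = π.subgroupMap c.P ⟨⁅g, z⁆, hmem⟩ := by
      apply Subtype.ext
      rw [h]
      exact (map_commutatorElement π g z).symm
    have h2 := (Classical.choose_spec (c.exists_quot_ψ π hψ)).2
    have h3 : (1 : c.P.map π) = π.subgroupMap c.P 1 := (map_one _).symm
    rw [h1, h3, h2, h2]
    exact c.cen _ ⟨g, z, hz, rfl⟩

theorem quot_ψ (x : c.P) : (c.quot π hπ hk hψ).ψ ⟨π x, ⟨x, x.2, rfl⟩⟩ = c.ψ x :=
  (Classical.choose_spec (c.exists_quot_ψ π hψ)).2 x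

theorem quot_f (k : c.K) : (c.quot π hπ hk hψ).f ⟨π k, ⟨k, k.2, rfl⟩⟩ = c.f k :=
  Classical.choose_spec (c.exists_quot_f π hk) k

end quot

/-- Strong configurations: `Z` is central and `ψ` is faithful on `Z`. -/
structure Strong (c : Cfg p Q G) : Prop where
  cent : c.Z ≤ center G
  faith : ∀ x : c.P, (x : G) ∈ c.Z → c.ψ x = c.ψ 1 → x = 1

section strong

variable [Finite G] (c : Cfg p Q G)

/-- the kernel of `ψ` on `Z` -/
def L : Subgroup G where
  carrier := {x | ∃ h : x ∈ c.Z, c.ψ ⟨x, c.hZP h⟩ = c.ψ 1}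
  mul_mem' := by
    rintro a b ⟨ha, ha'⟩ ⟨hb, hb'⟩
    refine ⟨mul_mem ha hb, ?_⟩
    have := mul_of_ker c.irr hb' ⟨a, c.hZP ha⟩
    rw [ha'] at this
    exact this
  one_mem' := ⟨one_mem _, rfl⟩
  inv_mem' := by
    rintro a ⟨ha, ha'⟩
    exact ⟨inv_mem ha, inv_of_ker c.irr ha'⟩

theorem comm_mem (g : G) {z : G} (hz : z ∈ c.Z) : ⁅g, z⁆ ∈ c.Z := by
  rw [commutatorElement_def]
  exact mul_mem (c.hZn.conj_mem z hz g) (inv_mem hz)

theorem comm_mem_L (g : G) {z : G} (hz : z ∈ c.Z) : ⁅g, z⁆ ∈ c.L :=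
  ⟨c.comm_mem g hz, c.cen _ ⟨g, z, hz, rfl⟩⟩

instance L_normal : c.L.Normal := by
  refine ⟨fun x hx g => ?_⟩
  have h1 : g * x * g⁻¹ = ⁅g, x⁆ * x := by rw [commutatorElement_def]; group
  rw [h1]
  exact mul_mem (c.comm_mem_L g hx.1) hx

theorem L_le : c.L ≤ c.Z := fun _ hx => hx.1

theorem exists_strong : ∃ (G₁ : Type u) (_ : Group G₁) (_ : Finite G₁) (c' : Cfg p Q G₁), c'.Strong ∧
    c'.Z.index ≤ c.Z.index := by
  have hk : ∀ x, QuotientGroup.mk' c.L x = 1 → ∃ h : x ∈ c.K, c.f ⟨x, h⟩ = 1 := by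
    intro x hx
    exact c.hZR x (c.L_le ((QuotientGroup.eq_one_iff x).1 hx))
  have hψ : ∀ x : c.P, QuotientGroup.mk' c.L x = 1 → c.ψ x = c.ψ 1 := by
    intro x hx
    exact ((QuotientGroup.eq_one_iff (x : G)).1 hx).2
  refine ⟨G ⧸ c.L, inferInstance, inferInstance,
    c.quot (QuotientGroup.mk' c.L) (QuotientGroup.mk'_surjective _) hk hψ, ⟨?_, ?_⟩, ?_⟩
  · rintro _ ⟨z, hz, rfl⟩
    rw [mem_center_iff]
    intro g₁
    obtain ⟨g, rfl⟩ := QuotientGroup.mk'_surjective _ g₁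
    have h1 := (QuotientGroup.eq_one_iff _).2 (c.comm_mem_L g hz)
    have h2 : QuotientGroup.mk' c.L (g * z) = QuotientGroup.mk' c.L ⁅g, z⁆ * QuotientGroup.mk' c.L (z * g) := by
      rw [← map_mul, commutatorElement_def]
      congr 1
      group
    rw [← map_mul, ← map_mul, h2]
    have h3 : QuotientGroup.mk' c.L ⁅g, z⁆ = 1 := h1
    rw [h3, one_mul]
  · rintro ⟨x₁, hx₁⟩ hxZ h
    obtain ⟨z, hz, hzx⟩ := hxZ
    have hzx' : QuotientGroup.mk' c.L z = x₁ := hzx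
    subst hzx'
    have h1 := c.quot_ψ (QuotientGroup.mk' c.L) (QuotientGroup.mk'_surjective _) hk hψ ⟨z, c.hZP hz⟩
    have h2 := c.quot_ψ (QuotientGroup.mk' c.L) (QuotientGroup.mk'_surjective _) hk hψ 1
    have h3 : c.ψ ⟨z, c.hZP hz⟩ = c.ψ 1 := by
      rw [← h1, ← h2]
      refine h.trans ?_
      congr 1
    apply Subtype.ext
    exact (QuotientGroup.eq_one_iff z).2 ⟨hz, h3⟩
  · exact Nat.le_of_dvd (Nat.pos_of_ne_zero index_ne_zero_of_finite)
      (index_map_dvd _ (QuotientGroup.mk'_surjective _))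

end strong

end Cfg

end Cfsg.Agent.H682.CT
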