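import Cfsg.Agent.Characters.Core
import Cfsg.Agent.Characters.Central
import Mathlib

/-!
# The group of pairs of an invariant irreducible representation of a normal subgroup

`pairs M X N` : the group of all `(g, T)` with `T X(m) T⁻¹ = X(g m g⁻¹)` for `m ∈ M` and `det(T) ^ N = 1`.
-/

set_option autoImplicit false
set_option linter.unusedSectionVars false

namespace Cfsg.Agent.H682.CT

open Subgroup Cfsg Cfsg.Agent.Characters.Core

universe u

section pairs

variable {G : Type u} [Group G] (M : Subgroup G) [hM : M.Normal] {n : ℕ} (X : Representation ℂ M (Fin n → ℂ))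
  (N : ℕ)

/-- The group of pairs. -/
def pairs : Subgroup (G × (Module.End ℂ (Fin n → ℂ))ˣ) where
  carrier := {x | (∀ m : M, (x.2 : Module.End ℂ (Fin n → ℂ)) * X m = X (MulAut.conjNormal x.1 m) * x.2) ∧
    (LinearMap.det (x.2 : Module.End ℂ (Fin n → ℂ))) ^ N = 1}
  mul_mem' := by
    rintro ⟨g, T⟩ ⟨h, S⟩ ⟨h1, h2⟩ ⟨h3, h4⟩
    refine ⟨fun m => ?_, ?_⟩
    · show ((T * S : (Module.End ℂ (Fin n → ℂ))ˣ) : Module.End ℂ (Fin n → ℂ)) * X m =
        X (MulAut.conjNormal (g * h) m) * ((T * S : (Module.End ℂ (Fin n → ℂ))ˣ) : Module.End ℂ (Fin n → ℂ))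
      have h1' := h1 (MulAut.conjNormal h m)
      have h3' := h3 m
      simp only at h1' h3'
      rw [Units.val_mul, mul_assoc, h3', ← mul_assoc, h1', mul_assoc, map_mul MulAut.conjNormal, MulAut.mul_apply]
    · show (LinearMap.det ((T * S : (Module.End ℂ (Fin n → ℂ))ˣ) : Module.End ℂ (Fin n → ℂ))) ^ N = 1
      simp only at h2 h4
      rw [Units.val_mul, map_mul, mul_pow, h2, h4, one_mul]
  one_mem' := by
    refine ⟨fun m => ?_, ?_⟩
    · show (1 : Module.End ℂ (Fin n → ℂ)) * X m = X (MulAut.conjNormal (1 : G) m) * 1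
      rw [map_one, MulAut.one_apply, one_mul, mul_one]
    · show (LinearMap.det (1 : Module.End ℂ (Fin n → ℂ))) ^ N = 1
      rw [map_one, one_pow]
  inv_mem' := by
    rintro ⟨g, T⟩ ⟨h1, h2⟩
    refine ⟨fun m => ?_, ?_⟩
    · show ((T⁻¹ : (Module.End ℂ (Fin n → ℂ))ˣ) : Module.End ℂ (Fin n → ℂ)) * X m =
        X (MulAut.conjNormal g⁻¹ m) * ((T⁻¹ : (Module.End ℂ (Fin n → ℂ))ˣ) : Module.End ℂ (Fin n → ℂ))
      have h1' := h1 (MulAut.conjNormal g⁻¹ m)
      simp only at h1'
      rw [← MulAut.mul_apply, ← map_mul, mul_inv_cancel, map_one, MulAut.one_apply] at h1'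
      rw [Units.inv_mul_eq_iff_eq_mul, ← mul_assoc, h1', mul_assoc, Units.mul_inv, mul_one]
    · show (LinearMap.det ((T⁻¹ : (Module.End ℂ (Fin n → ℂ))ˣ) : Module.End ℂ (Fin n → ℂ))) ^ N = 1
      simp only at h2
      have h3 : (LinearMap.det ((T⁻¹ : (Module.End ℂ (Fin n → ℂ))ˣ) : Module.End ℂ (Fin n → ℂ))) *
          LinearMap.det (T : Module.End ℂ (Fin n → ℂ)) = 1 := by
        rw [← map_mul, Units.inv_mul, map_one]
      have h4 := congrArg (· ^ N) h3
      simp only [mul_pow, h2, mul_one, one_pow] at h4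
      exact h4

/-- the projection to the group -/
def prG : pairs M X N →* G := (MonoidHom.fst G _).comp (pairs M X N).subtype

/-- the second component -/
def snd (x : pairs M X N) : Module.End ℂ (Fin n → ℂ) := ((x : G × (Module.End ℂ (Fin n → ℂ))ˣ).2 : _)

theorem snd_mul (x y : pairs M X N) : snd M X N (x * y) = snd M X N x * snd M X N y := rfl

theorem snd_one : snd M X N 1 = 1 := rfl

theorem snd_comm (x : pairs M X N) (m : M) :
    snd M X N x * X m = X (MulAut.conjNormal (prG M X N x) m) * snd M X N x := x.2.1 m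

theorem pairs_ext {x y : pairs M X N} (h1 : prG M X N x = prG M X N y) (h2 : snd M X N x = snd M X N y) :
    x = y := Subtype.ext (Prod.ext h1 (Units.ext h2))

/-- the representation by the second component -/
def rep : Representation ℂ (pairs M X N) (Fin n → ℂ) where
  toFun := snd M X N
  map_one' := rfl
  map_mul' _ _ := rfl

variable {M X N}

theorem ker_scalar (hX : X.IsIrreducible) {x : pairs M X N} (hx : prG M X N x = 1) :
    ∃ c : ℂ, snd M X N x = c • (1 : Module.End ℂ (Fin n → ℂ)) ∧ c ^ (n * N) = 1 := by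
  obtain ⟨c, hc⟩ := Characters.Central.exists_smul_of_comm X hX (snd M X N x) (by
    intro m
    rw [snd_comm, hx, map_one, MulAut.one_apply])
  refine ⟨c, hc, ?_⟩
  have h1 : LinearMap.det (snd M X N x) ^ N = 1 := x.2.2
  rw [hc, LinearMap.det_smul, map_one, mul_one, Module.finrank_fin_fun, ← pow_mul] at h1
  exact h1

theorem finite_roots {k : ℕ} (hk : 0 < k) : Finite {c : ℂ // c ^ k = 1} := by
  have : {c : ℂ | c ^ k = 1} ⊆ ((Polynomial.nthRoots k (1 : ℂ)).toFinset : Set ℂ) := by
    intro c hc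
    simp only [Finset.mem_coe, Multiset.mem_toFinset]
    rw [Polynomial.mem_nthRoots hk]
    exact hc
  exact ((Finset.finite_toSet _).subset this).to_subtype

theorem finite_pairs [Finite G] (hX : X.IsIrreducible) (hN : 0 < N) : Finite (pairs M X N) := by
  have hn : 0 < n := by
    have := Characters.Central.finrank_pos_of_irr X hX
    rwa [Module.finrank_fin_fun] at this
  have hk : Finite (prG M X N).ker := by
    have := finite_roots (Nat.mul_pos hn hN)
    choose c hc hc' using fun x : (prG M X N).ker => ker_scalar hX (x := (x : pairs M X N)) x.2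
    refine Finite.of_injective (fun x => (⟨c x, hc' x⟩ : {c : ℂ // c ^ (n * N) = 1})) ?_
    intro x y hxy
    have h1 : c x = c y := congrArg Subtype.val hxy
    apply Subtype.ext
    refine pairs_ext M X N ?_ ?_
    · rw [MonoidHom.mem_ker.1 x.2, MonoidHom.mem_ker.1 y.2]
    · rw [hc, hc, h1]
  have hq : Finite (pairs M X N ⧸ (prG M X N).ker) :=
    Finite.of_injective (QuotientGroup.kerLift (prG M X N)) (QuotientGroup.kerLift_injective _)
  exact Finite.of_subgroup_quotient (prG M X N).ker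

theorem ker_isPGroup {p : ℕ} (hX : X.IsIrreducible) {a : ℕ} (ha : n * N = p ^ a) :
    IsPGroup p (prG M X N).ker := by
  rintro ⟨x, hx⟩
  obtain ⟨c, hc, hc'⟩ := ker_scalar hX hx
  refine ⟨a, ?_⟩
  apply Subtype.ext
  show x ^ p ^ a = 1
  refine pairs_ext M X N ?_ ?_
  · rw [map_pow, MonoidHom.mem_ker.1 hx, one_pow, map_one]
  · have h1 : ∀ k : ℕ, snd M X N (x ^ k) = (c ^ k) • (1 : Module.End ℂ (Fin n → ℂ)) := by
      intro k
      induction k with
      | zero => rw [pow_zero, pow_zero, one_smul]; rfl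
      | succ k ih => rw [pow_succ, snd_mul, ih, hc, pow_succ, smul_mul_smul_comm, one_mul]
    rw [h1, ← ha, hc', one_smul, snd_one]

theorem ker_comm (hX : X.IsIrreducible) (x y : pairs M X N) (hx : prG M X N x = 1) (hy : prG M X N y = 1) :
    x * y = y * x := by
  obtain ⟨c, hc, -⟩ := ker_scalar hX hx
  refine pairs_ext M X N ?_ ?_
  · rw [map_mul, map_mul, hx, hy]
  · rw [snd_mul, snd_mul, hc, smul_mul_assoc, mul_smul_comm, one_mul, mul_one]

theorem prG_surjective [Finite G] (hX : X.IsIrreducible)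
    (hinv : ∀ (g : G) (m : M), X.character (MulAut.conjNormal g m) = X.character m) :
    Function.Surjective (prG M X N) := by
  intro g
  have hn : 0 < n := by
    have := Characters.Central.finrank_pos_of_irr X hX
    rwa [Module.finrank_fin_fun] at this
  let Y : Representation ℂ M (Fin n → ℂ) := X.comp (MulAut.conjNormal g : MulAut M).toMonoidHom
  obtain ⟨e⟩ := nonempty_equiv_of_character_eq X Y (by
    funext m
    exact (hinv g m).symm)
  let T₀ : (Fin n → ℂ) ≃ₗ[ℂ] (Fin n → ℂ) := e.toLinearEquiv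
  have hT₀ : ∀ m : M, (T₀ : Module.End ℂ (Fin n → ℂ)) * X m = X (MulAut.conjNormal g m) * (T₀ : Module.End ℂ _) := by
    intro m
    refine LinearMap.ext fun v => ?_
    exact Representation.IntertwiningMap.isIntertwining _ _ e.toIntertwiningMap m v
  have hdet : LinearMap.det (T₀ : Module.End ℂ (Fin n → ℂ)) ≠ 0 := by
    have := (LinearEquiv.isUnit_det' T₀).ne_zero
    exact this
  obtain ⟨c, hc⟩ := IsAlgClosed.exists_pow_nat_eq (LinearMap.det (T₀ : Module.End ℂ (Fin n → ℂ)))⁻¹ hn
  have hc0 : c ≠ 0 := by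
    intro h
    rw [h, zero_pow hn.ne'] at hc
    exact inv_ne_zero hdet hc.symm
  let T : (Module.End ℂ (Fin n → ℂ))ˣ :=
    { val := c • (T₀ : Module.End ℂ (Fin n → ℂ))
      inv := c⁻¹ • (T₀.symm : Module.End ℂ (Fin n → ℂ))
      val_inv := by
        rw [smul_mul_smul_comm, mul_inv_cancel₀ hc0, one_smul]
        refine LinearMap.ext fun v => ?_
        exact T₀.apply_symm_apply v
      inv_val := by
        rw [smul_mul_smul_comm, inv_mul_cancel₀ hc0, one_smul]
        refine LinearMap.ext fun v => ?_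
        exact T₀.symm_apply_apply v }
  refine ⟨⟨(g, T), ?_, ?_⟩, rfl⟩
  · intro m
    show (c • (T₀ : Module.End ℂ (Fin n → ℂ))) * X m = X (MulAut.conjNormal g m) * (c • (T₀ : Module.End ℂ _))
    rw [smul_mul_assoc, hT₀, mul_smul_comm]
  · show LinearMap.det (c • (T₀ : Module.End ℂ (Fin n → ℂ))) ^ N = 1
    rw [LinearMap.det_smul, Module.finrank_fin_fun, hc, inv_mul_cancel₀ hdet, one_pow]

/-- the embedding of `M` -/
def inM (hN : ∀ m : M, LinearMap.det (X m) ^ N = 1) : M →* pairs M X N where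
  toFun m := ⟨((m : G), X.asGroupHom m), by
    refine ⟨fun m' => ?_, hN m⟩
    show X m * X m' = X (MulAut.conjNormal (m : G) m') * X m
    rw [← map_mul, ← map_mul]
    congr 1
    apply Subtype.ext
    simp⟩
  map_one' := by
    apply Subtype.ext
    simp
  map_mul' a b := by
    apply Subtype.ext
    simp

theorem prG_inM (hN : ∀ m : M, LinearMap.det (X m) ^ N = 1) (m : M) : prG M X N (inM hN m) = m := rfl

theorem snd_inM (hN : ∀ m : M, LinearMap.det (X m) ^ N = 1) (m : M) : snd M X N (inM hN m) = X m := rfl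

theorem inM_range_normal (hN : ∀ m : M, LinearMap.det (X m) ^ N = 1) : (inM hN).range.Normal := by
  refine ⟨?_⟩
  rintro _ ⟨m, rfl⟩ x
  refine ⟨MulAut.conjNormal (prG M X N x) m, ?_⟩
  rw [eq_mul_inv_iff_mul_eq]
  refine pairs_ext M X N ?_ ?_
  · rw [map_mul, map_mul, prG_inM, prG_inM, MulAut.conjNormal_apply]
    group
  · rw [snd_mul, snd_mul, snd_inM, snd_inM, snd_comm]

end pairs

end Cfsg.Agent.H682.CT
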