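import Cfsg.Agent.H682.CT.Cfg
import Cfsg.Agent.H682.CT.Pairs
import Cfsg.Agent.CharactersDeep.MaxInduced
import Cfsg.Agent.CharactersDeep.CosetAverage

/-!
# The nondegenerate step: passing to the group of pairs
-/

set_option autoImplicit false
set_option linter.unusedSectionVars false

namespace Cfsg.Agent.H682.CT

open Subgroup Cfsg Cfsg.Agent.Characters.Core
open scoped commutatorElement

universe u v

namespace Cfg

variable {p : ℕ} [hp : Fact p.Prime] {Q : Type v} [Group Q] {G : Type u} [Group G] [Finite G]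

/-- Normal `p`-subgroups are contained in `P`. -/
theorem le_P (c : Cfg p Q G) (M : Subgroup G) [hM : M.Normal] (hMp : IsPGroup p M) : M ≤ c.P := by
  have h1 : IsPGroup p (c.P ⊔ M : Subgroup G) := c.hP.to_sup_of_normal_right hMp
  have h2 : c.P.relIndex (c.P ⊔ M) ∣ c.P.index := Dvd.intro _ (relIndex_mul_index le_sup_left)
  obtain ⟨n, hn⟩ := IsPGroup.iff_card.1 h1
  have h3 : c.P.relIndex (c.P ⊔ M) ∣ p ^ n := by
    rw [← hn]
    exact relIndex_dvd_card _ _
  obtain ⟨k, -, hk⟩ := (Nat.dvd_prime_pow hp.out).1 h3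
  rcases Nat.eq_zero_or_pos k with rfl | hk0
  · rw [pow_zero, relIndex_eq_one] at hk
    exact le_sup_right.trans hk
  · exfalso
    apply c.hPi
    refine dvd_trans ?_ h2
    rw [hk]
    exact dvd_pow_self p hk0.ne'

/-- The nondegenerate step. -/
theorem step_E (c : Cfg p Q G) (hs : c.Strong) (M : Subgroup G) [hM : M.Normal] (hMp : IsPGroup p M)
    (hZM : c.Z < M) (hMR : ∀ a ∈ M, ∃ h : a ∈ c.K, c.f ⟨a, h⟩ = 1) (hcom : ∀ a ∈ M, ∀ b ∈ M, ⁅a, b⁆ ∈ c.Z)
    (hcen : ∀ a ∈ M, (∀ b ∈ M, ⁅a, b⁆ = 1) → a ∈ c.Z) :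
    ∃ (G₁ : Type u) (_ : Group G₁) (_ : Finite G₁) (c' : Cfg p Q G₁), c'.Z.index < c.Z.index := by
  classical
  have := Fintype.ofFinite G
  have := Fintype.ofFinite c.P
  have := Fintype.ofFinite M
  have hMP : M ≤ c.P := c.le_P M hMp
  let ι : M →* c.P := Subgroup.inclusion hMP
  obtain ⟨φ, ⟨n, X, hX, rfl⟩, hφ0⟩ := H672.exists_under (f := ι) c.irr
  rw [H672.over_iff] at hφ0
  have hXirr : IsIrrCharacter M X.character := ⟨n, X, hX, rfl⟩
  have hn : 0 < n := by
    have := Characters.Central.finrank_pos_of_irr X hX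
    rwa [Module.finrank_fin_fun] at this
  have hX1 : X.character 1 = n := by rw [Representation.char_one, Module.finrank_fin_fun]
  -- scalars
  have hsc : ∀ (z : M), (z : G) ∈ c.Z → ∃ w : ℂ, ‖w‖ = 1 ∧ (∀ m : M, X.character (m * z) = w * X.character m) ∧
      (w = 1 → z = 1) := by
    intro z hz
    obtain ⟨w, hw1, hw⟩ := exists_scalar c.irr (z := ι z) (fun g => c.cen _ ⟨g, z, hz, rfl⟩)
    obtain ⟨w', hw'1, hw'⟩ := exists_scalar hXirr (z := z) (fun g => by
      congr 1
      apply Subtype.ext
      show ⁅(g : G), (z : G)⁆ = 1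
      rw [commutatorElement_def, mem_center_iff.1 (hs.cent hz) g]
      group)
    have hww : w = w' := by
      refine scalar_eq hφ0 (z := z) (fun g => ?_) hw' hw'1
      simp only [Function.comp, map_mul]
      exact hw (ι g)
    refine ⟨w', hw'1, hw', fun h1 => ?_⟩
    have h2 := hw 1
    rw [one_mul, hww, h1, one_mul] at h2
    have h3 := hs.faith (ι z) hz h2
    exact Subtype.ext (congrArg (fun t : c.P => (t : G)) h3)
  have hvan : ∀ m : M, (m : G) ∉ c.Z → X.character m = 0 := by
    intro m hm
    obtain ⟨b, hb, hmb⟩ : ∃ b ∈ M, ⁅(m : G), b⁆ ≠ 1 := by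
      by_contra hcon
      push Not at hcon
      exact hm (hcen m m.2 hcon)
    let z : M := ⟨⁅b, (m : G)⁆, hZM.le (hcom b hb m m.2)⟩
    obtain ⟨w, -, hw, hw1⟩ := hsc z (hcom b hb m m.2)
    have hwne : w ≠ 1 := by
      intro h
      have h1 : ⁅b, (m : G)⁆ = 1 := congrArg Subtype.val (hw1 h)
      apply hmb
      rw [← commutatorElement_inv, h1, inv_one]
    have h2 : (⟨b, hb⟩ : M) * m * (⟨b, hb⟩ : M)⁻¹ = m * z := by
      apply Subtype.ext
      show b * m * b⁻¹ = m * ⁅b, (m : G)⁆
      rw [mem_center_iff.1 (hs.cent (hcom b hb m m.2)) m, commutatorElement_def]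
      group
    have h3 := Representation.char_conj X m ⟨b, hb⟩
    rw [h2, hw] at h3
    have h4 : (w - 1) * X.character m = 0 := by rw [sub_mul, h3, one_mul, sub_self]
    rcases mul_eq_zero.1 h4 with h | h
    · exact absurd (sub_eq_zero.1 h) hwne
    · exact h
  have hinv : ∀ (g : G) (m : M), X.character (MulAut.conjNormal g m) = X.character m := by
    intro g m
    by_cases hm : (m : G) ∈ c.Z
    · congr 1
      apply Subtype.ext
      rw [MulAut.conjNormal_apply, mem_center_iff.1 (hs.cent hm) g, mul_inv_cancel_right]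
    · rw [hvan m hm, hvan]
      intro h
      apply hm
      rw [MulAut.conjNormal_apply] at h
      have := c.hZn.conj_mem _ h g⁻¹
      have e1 : g⁻¹ * (g * (m : G) * g⁻¹) * g⁻¹⁻¹ = m := by group
      rwa [e1] at this
  -- degrees
  have hcardM : n ^ 2 * Nat.card c.Z = Nat.card M := by
    have h1 := eq_of_vanish (A := c.Z.subgroupOf M) hXirr hX1 (by
      intro z hz
      obtain ⟨w, hw1, hw, -⟩ := hsc z hz
      have := hw 1
      rw [one_mul] at this
      rw [this, norm_mul, hw1, one_mul]) (fun g hg => hvan g hg)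
    rwa [Nat.card_congr (subgroupOfEquivOfLe hZM.le).toEquiv] at h1
  obtain ⟨k, hk⟩ := IsPGroup.iff_card.1 hMp
  obtain ⟨a, -, ha⟩ : ∃ a, a ≤ k ∧ n = p ^ a := by
    refine (Nat.dvd_prime_pow hp.out).1 ?_
    rw [← hk, ← hcardM]
    exact Dvd.dvd.mul_right (dvd_pow_self n two_ne_zero) _
  have hNN : n * p ^ k = p ^ (a + k) := by rw [ha, ← pow_add]
  have hN : ∀ m : M, LinearMap.det (X m) ^ (p ^ k) = 1 := by
    intro m
    rw [← map_pow, ← map_pow, ← hk, pow_card_eq_one', map_one, map_one]
  -- the group of pairs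
  have hfin : Finite (pairs M X (p ^ k)) := finite_pairs hX (pow_pos hp.out.pos k)
  set pr := prG M X (p ^ k) with hpr
  have hsurj : Function.Surjective pr := prG_surjective hX hinv
  have hker : IsPGroup p pr.ker := ker_isPGroup hX hNN
  set Ph := c.P.comap pr with hPh
  have := Fintype.ofFinite Ph
  let ιh : M →* Ph := (inM hN).codRestrict Ph (fun m => hMP m.2)
  have hιh : Function.Injective ιh := by
    intro x y hxy
    have h1 : pr (ιh x : pairs M X (p ^ k)) = pr (ιh y : pairs M X (p ^ k)) := by rw [hxy]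
    exact Subtype.ext h1
  have hιn : (ιh.range).Normal := by
    refine ⟨?_⟩
    rintro _ ⟨m, rfl⟩ x
    obtain ⟨m', hm'⟩ := (inM_range_normal hN).conj_mem _ ⟨m, rfl⟩ (x : pairs M X (p ^ k))
    exact ⟨m', Subtype.ext hm'⟩
  have := Fintype.ofFinite ιh.range
  let eM : M ≃* ιh.range := MonoidHom.ofInjective hιh
  -- the character of the second component
  let σ : Representation ℂ Ph (Fin n → ℂ) := (rep M X (p ^ k)).comp Ph.subtype
  have hσι : ∀ m : M, σ.character (ιh m) = X.character m := fun m => rfl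
  have hσ1 : σ.character 1 = n := by rw [Representation.char_one, Module.finrank_fin_fun]
  have hDirr : IsIrrCharacter Ph σ.character :=
    CharactersDeep.MaxInduced.isIrr_of_comp ιh ⟨n, σ, rfl⟩ (by
      have : σ.character ∘ ιh = X.character := funext hσι
      rw [this]
      exact hXirr)
  have hDN : IsIrrCharacter ιh.range (fun x : ιh.range => σ.character x) := by
    have h1 : (fun x : ιh.range => σ.character x) = X.character ∘ eM.symm := by
      funext x
      obtain ⟨m, rfl⟩ := eM.surjective x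
      rw [Function.comp, MulEquiv.symm_apply_apply]
      exact hσι m
    rw [h1]
    exact isIrr_comp eM.symm.toMonoidHom eM.symm.surjective hXirr
  let prP : Ph →* c.P := pr.subgroupComap c.P
  have hprP : Function.Surjective prP := by
    intro x
    obtain ⟨y, hy⟩ := hsurj (x : G)
    refine ⟨⟨y, ?_⟩, Subtype.ext hy⟩
    rw [hPh, mem_comap, hy]
    exact x.2
  have hψh : IsIrrCharacter Ph (c.ψ ∘ prP) := isIrr_comp prP hprP c.irr
  have hover : classInner (fun x : ιh.range => (c.ψ ∘ prP) x) (fun x : ιh.range => σ.character x) ≠ 0 := by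
    have h1 := Characters.Clifford.classInner_comp_mulEquiv eM (fun x : ιh.range => (c.ψ ∘ prP) x)
      (fun x : ιh.range => σ.character x)
    rw [← h1]
    exact hφ0
  obtain ⟨η, hη, hηN, hηm⟩ := CharactersDeep.CosetAverage.exists_irr_mul ιh.range σ.character hDirr hDN
    (c.ψ ∘ prP) hψh hover
  -- commutators with elements over `M`
  have hcomM : ∀ (g z : pairs M X (p ^ k)), pr z ∈ M → ∃ m : M, ⁅g, z⁆ = inM hN m := by
    intro g z hz
    let m : M := ⟨pr z, hz⟩
    have hy : pr ((inM hN m)⁻¹ * z) = 1 := by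
      rw [map_mul, map_inv]
      exact inv_mul_cancel _
    obtain ⟨s, hs', -⟩ := ker_scalar hX hy
    have hyc : ∀ x : pairs M X (p ^ k), x * ((inM hN m)⁻¹ * z) = ((inM hN m)⁻¹ * z) * x := by
      intro x
      refine pairs_ext M X _ ?_ ?_
      · have h2 : prG M X (p ^ k) ((inM hN m)⁻¹ * z) = 1 := hy
        rw [map_mul, map_mul _ _ x, h2, mul_one, one_mul]
      · rw [snd_mul, snd_mul _ _ _ _ x, hs', mul_smul_comm, smul_mul_assoc, one_mul, mul_one]
    have hz' : z = inM hN m * ((inM hN m)⁻¹ * z) := by group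
    obtain ⟨m', hm'⟩ := (inM_range_normal hN).conj_mem _ ⟨m, rfl⟩ g
    refine ⟨m' * m⁻¹, ?_⟩
    rw [map_mul, map_inv, hm', commutatorElement_def]
    set y := (inM hN m)⁻¹ * z with hydef
    rw [hz']
    calc g * (inM hN m * y) * g⁻¹ * (inM hN m * y)⁻¹
        = g * inM hN m * (y * g⁻¹) * y⁻¹ * (inM hN m)⁻¹ := by group
      _ = g * inM hN m * (g⁻¹ * y) * y⁻¹ * (inM hN m)⁻¹ := by rw [hyc]
      _ = _ := by group
  have hcen' : ∀ x : Ph, (∃ g : pairs M X (p ^ k), ∃ z ∈ M.comap pr, (x : pairs M X (p ^ k)) = ⁅g, z⁆) →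
      η x = η 1 := by
    rintro x ⟨g, z, hz, hx⟩
    obtain ⟨m, hm⟩ := hcomM g z hz
    have h1 := hηN ⟨ιh m, ⟨m, rfl⟩⟩ 1
    rw [mul_one] at h1
    rw [← h1]
    congr 1
    apply Subtype.ext
    rw [hx, hm]
    rfl
  -- degrees
  obtain ⟨e₁, he₁0, he₁⟩ := isIrr_apply_one hη
  obtain ⟨d, hd0, hd⟩ := isIrr_apply_one c.irr
  have hde : d = n * e₁ := by
    have h1 := congrFun hηm 1
    simp only [Function.comp, map_one, Pi.mul_apply, hσ1, he₁, hd] at h1
    exact_mod_cast h1
  have hcardP : d ^ 2 * Nat.card c.Z = Nat.card c.P := by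
    have h1 := eq_of_vanish (A := c.Z.subgroupOf c.P) c.irr hd (by
      intro z hz
      obtain ⟨w, hw1, hw⟩ := exists_scalar c.irr (z := z) (fun g => c.cen _ ⟨g, z, hz, rfl⟩)
      have := hw 1
      rw [one_mul] at this
      rw [this, norm_mul, hw1, one_mul]) (fun g hg => c.van g hg)
    rwa [Nat.card_congr (subgroupOfEquivOfLe c.hZP).toEquiv] at h1
  have hvan' : ∀ x : Ph, (x : pairs M X (p ^ k)) ∉ M.comap pr → η x = 0 := by
    intro x hx
    have hle : M.comap pr ≤ Ph := comap_mono hMP
    refine vanish_of_eq (A := (M.comap pr).subgroupOf Ph) hη he₁ ?_ ?_ hx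
    · intro z hz
      obtain ⟨w, hw1, hw⟩ := exists_scalar hη (z := z) (fun g => hcen' _ ⟨g, z, hz, rfl⟩)
      have := hw 1
      rw [one_mul] at this
      rw [this, norm_mul, hw1, one_mul]
    · rw [Nat.card_congr (subgroupOfEquivOfLe hle).toEquiv]
      have h1 := card_mul_index Ph
      have h2 := card_mul_index (M.comap pr)
      have h3 := card_mul_index c.P
      have h4 := card_mul_index M
      rw [hPh, index_comap_of_surjective _ hsurj, ← hPh] at h1
      rw [index_comap_of_surjective _ hsurj] at h2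
      have h5 : e₁ ^ 2 * Nat.card M = Nat.card c.P := by
        rw [← hcardM, ← hcardP, hde]
        ring
      have h6 : 0 < c.P.index * Nat.card M :=
        Nat.mul_pos (Nat.pos_of_ne_zero index_ne_zero_of_finite) Nat.card_pos
      apply Nat.eq_of_mul_eq_mul_left h6
      calc c.P.index * Nat.card M * (e₁ ^ 2 * Nat.card (M.comap pr))
          = c.P.index * (e₁ ^ 2 * Nat.card M) * Nat.card (M.comap pr) := by ring
        _ = (Nat.card c.P * c.P.index) * Nat.card (M.comap pr) := by rw [h5]; ring
        _ = Nat.card M * (Nat.card (M.comap pr) * M.index) := by rw [h3, ← h4]; ring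
        _ = Nat.card M * (Nat.card Ph * c.P.index) := by rw [h2, ← h1]
        _ = _ := by ring
  let prK : c.K.comap pr →* c.K := pr.subgroupComap c.K
  have hprK : Function.Surjective prK := by
    intro x
    obtain ⟨y, hy⟩ := hsurj (x : G)
    refine ⟨⟨y, ?_⟩, Subtype.ext hy⟩
    rw [mem_comap, hy]
    exact x.2
  refine ⟨pairs M X (p ^ k), inferInstance, hfin,
    { P := Ph
      Z := M.comap pr
      K := c.K.comap pr
      f := c.f.comp prK
      ψ := η
      hP := c.hP.comap_of_ker_isPGroup pr hker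
      hPi := by
        rw [hPh, index_comap_of_surjective _ hsurj]
        exact c.hPi
      hZn := hM.comap pr
      hZP := comap_mono hMP
      hK := c.hK.comap pr
      hf := c.hf.comp hprK
      hR := by
        intro g k' hk'
        have h1 := c.hR (pr g) (prK k') hk'
        rw [← h1]
        show c.f (prK _) = _
        congr 1
      hRs := by
        have := c.hRs
        let g : (c.f.comp prK).ker →* c.f.ker :=
          { toFun := fun x => ⟨prK x, x.2⟩
            map_one' := by
              apply Subtype.ext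
              exact map_one prK
            map_mul' := fun x y => by
              apply Subtype.ext
              exact map_mul prK _ _ }
        have : Group.IsSolvable g.ker := Group.isSolvable_of_comm (by
          intro x y
          apply Subtype.ext
          apply Subtype.ext
          apply Subtype.ext
          refine ker_comm hX _ _ ?_ ?_
          · exact congrArg (fun t : c.f.ker => ((t : c.K) : G)) (MonoidHom.mem_ker.1 x.2)
          · exact congrArg (fun t : c.f.ker => ((t : c.K) : G)) (MonoidHom.mem_ker.1 y.2))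
        exact Group.isSolvable_of_ker_le_range g.ker.subtype g (by rw [Subgroup.range_subtype])
      hZR := by
        intro z hz
        obtain ⟨h, h'⟩ := hMR (pr z) hz
        exact ⟨h, h'⟩
      irr := hη
      van := hvan'
      cen := hcen' }, ?_⟩
  show (M.comap pr).index < c.Z.index
  rw [index_comap_of_surjective _ hsurj]
  exact index_strictAnti hZM

end Cfg

end Cfsg.Agent.H682.CT
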