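import Cfsg.Agent.H682.CT.Fin
import Cfsg.Agent.H682.CT.Ext

/-!
# The reduction for groups of central type
-/

set_option autoImplicit false
set_option linter.unusedSectionVars false

namespace Cfsg.Agent.H682.CT

open Subgroup Cfsg Cfsg.Agent.Characters.Core
open scoped commutatorElement

universe u v

namespace Cfg

variable {p : ℕ} [hp : Fact p.Prime] {Q : Type v} [Group Q]

theorem claim (hQ1 : NoIdx p Q) (hQ2 : NoExt.{v, u} p Q) (hperf : commutator Q = ⊤) (hd : p ∣ Nat.card Q)
    (n : ℕ) : ∀ (G : Type u) [Group G] [Finite G] (c : Cfg p Q G), c.Z.index = n → False := by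
  induction n using Nat.strong_induction_on with
  | _ n ih =>
    intro G₀ _ _ c₀ hn
    obtain ⟨G, _, _, c, hs, hle⟩ := c₀.exists_strong
    -- any configuration with a smaller index gives a contradiction
    have hlt : ∀ (G₁ : Type u) [Group G₁] [Finite G₁] (c' : Cfg p Q G₁), c'.Z.index < c.Z.index → False := by
      intro G₁ _ _ c' h
      exact ih c'.Z.index (by omega) G₁ c' rfl
    by_cases hR : ∃ x ∈ c.R, x ∉ c.Z
    · obtain ⟨A, hA, hZA, hAR, hcom⟩ := c.exists_A hs hR
      rcases c.pGroup_or hs A hcom with hAp | ⟨L, hL, hLA, hL1, hLp⟩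
      · have hAP : A ≤ c.P := c.le_P A hAp
        -- the centre of `A`
        have hB : (A ⊓ centralizer (A : Set G)).Normal := inferInstance
        by_cases hcen : A ⊓ centralizer (A : Set G) ≤ c.Z
        · obtain ⟨G₁, _, _, c', h⟩ := c.step_E hs A hAp hZA (fun a ha => mem_R.1 (hAR ha)) hcom (by
            intro a ha hab
            apply hcen
            refine mem_inf.2 ⟨ha, mem_centralizer_iff.2 fun b hb => ?_⟩
            exact (commutatorElement_eq_one_iff_mul_comm.1 (hab b hb)).symm)
          exact hlt G₁ c' h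
        · have hZB : c.Z < A ⊓ centralizer (A : Set G) := by
            refine lt_of_le_of_ne ?_ fun h => hcen h.ge
            intro z hz
            exact mem_inf.2 ⟨hZA.le hz, mem_centralizer_iff.2 fun b _ => mem_center_iff.1 (hs.cent hz) b⟩
          obtain ⟨T, c', h⟩ := c.step_T hs hQ1 (A ⊓ centralizer (A : Set G)) (by
            intro a ha b hb
            exact mem_centralizer_iff.1 hb.2 a ha.1) hZB (inf_le_left.trans hAP)
            (fun a ha => mem_R.1 (hAR ha.1))
          exact hlt T c' h
      · obtain ⟨G₁, _, _, c', h⟩ := c.step_L L hLp (fun a ha => mem_R.1 (hAR (hLA ha))) hL1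
        exact hlt G₁ c' h
    · push Not at hR
      exact c.final hs hQ2 hperf hd fun k hk => hR k (mem_R.2 ⟨k.2, hk⟩)

end Cfg

end Cfsg.Agent.H682.CT
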