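import Mathlib

/-!
# Primes for the solvability of groups of central type (S4804)

* `NoExt p Q` : in every central extension of `Q` by a finite `p`-group, the kernel meets the derived subgroup
  trivially;
* `NoIdx p Q` : `Q` has no proper subgroup whose index is a power of `p`;
* `Fit S` : there is a prime `p` dividing `|S|` with both properties.
-/

set_option autoImplicit false

namespace Cfsg.Agent.H682.CT

open Subgroup

universe u v w

/-- In every central extension of `Q` by a finite `p`-group, the kernel meets the derived subgroup trivially. -/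
def NoExt (p : ℕ) (Q : Type u) [Group Q] : Prop :=
  ∀ (E : Type v) [Group E] [Finite E] (f : E →* Q), Function.Surjective f → f.ker ≤ center E →
    IsPGroup p f.ker → f.ker ⊓ commutator E = ⊥

/-- `Q` has no proper subgroup whose index is a power of `p`. -/
def NoIdx (p : ℕ) (Q : Type u) [Group Q] : Prop :=
  ∀ (H : Subgroup Q) (k : ℕ), H.index = p ^ k → H = ⊤

/-- There is a prime divisor `p` of the order with `NoExt p` and `NoIdx p`. -/
def Fit (S : Type u) [Group S] : Prop :=
  ∃ p : ℕ, p.Prime ∧ p ∣ Nat.card S ∧ NoExt.{u, v} p S ∧ NoIdx p S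

theorem NoExt.congr {p : ℕ} {Q : Type u} [Group Q] {Q' : Type w} [Group Q'] (e : Q ≃* Q') (h : NoExt.{u, v} p Q) :
    NoExt.{w, v} p Q' := by
  intro E _ _ f hf hz hp
  have hk : (e.symm.toMonoidHom.comp f).ker = f.ker := by
    ext x
    simp [MonoidHom.mem_ker]
  have := h E (e.symm.toMonoidHom.comp f) (e.symm.surjective.comp hf) (by rwa [hk]) (by rwa [hk])
  rwa [hk] at this

theorem NoIdx.congr {p : ℕ} {Q : Type u} [Group Q] {Q' : Type w} [Group Q'] (e : Q ≃* Q') (h : NoIdx p Q) :
    NoIdx p Q' := by
  intro H k hH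
  have h1 := h (H.comap e.toMonoidHom) k (by
    rw [Subgroup.index_comap_of_surjective _ e.surjective, hH])
  rw [eq_top_iff]
  intro x _
  obtain ⟨y, rfl⟩ := e.surjective x
  have : y ∈ H.comap e.toMonoidHom := by rw [h1]; trivial
  exact this

theorem Fit.congr {Q : Type u} [Group Q] {Q' : Type w} [Group Q'] (e : Q ≃* Q') (h : Fit.{u, v} Q) :
    Fit.{w, v} Q' := by
  obtain ⟨p, hp, h1, h2, h3⟩ := h
  exact ⟨p, hp, by rwa [← Nat.card_congr e.toEquiv], h2.congr e, h3.congr e⟩

end Cfsg.Agent.H682.CT
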