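import Cfsg.Agent.H682.CT.LieFit
import Cfsg.Agent.H682.CT.Arith
import Cfsg.Agent.S1059
import Cfsg.Agent.S1062
import Cfsg.Agent.S1063
import Cfsg.Agent.S1064
import Cfsg.Agent.S1065
import Cfsg.Agent.S2100
import Cfsg.Agent.S2103
import Cfsg.Agent.S2105
import Cfsg.Agent.S2106
import Cfsg.Agent.S2107

/-!
# `Fit` for the exceptional Chevalley groups

Two primes `≥ 5` different from the characteristic: divisors of `q² ± q + 1` for `G₂`, of `q⁴ + 1` and `q⁴ - q² + 1` for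
`F₄`, `E₆`, `E₇`, `E₈`; they do not divide the order of the Schur multiplier. The groups `G₂(3)`, `G₂(4)`, `F₄(2)` have
two Sylow subgroups of prime order.
-/

set_option autoImplicit false

namespace Cfsg.Agent.H682.CT

open Cfsg.Agent.Nodes.RGDChev (HasRGD)
open Arith

universe u v w

theorem isSimpleGroup_of_equiv {S : Type u} [Group S] {G : Type w} [Group G] (e : S ≃* G) [IsSimpleGroup S] :
    IsSimpleGroup G := e.symm.isSimpleGroup

/-- a simple group with two primes not dividing the multiplier -/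
theorem fit_model {S : Type u} [Group S] [Finite S] [IsSimpleGroup S] (hna : ¬ ∀ a b : S, a * b = b * a)
    {G : Type w} [Group G] (e : S ≃* G) {r : ℕ} (hr : r.Prime) (hG : HasRGD r G) {A : Type} [CommGroup A] [Finite A]
    (hM : Cfsg.HasSchurMultiplier G A) {p₁ p₂ : ℕ} (hp₁ : p₁.Prime) (hp₂ : p₂.Prime) (hne : p₁ ≠ p₂)
    (h₁ : p₁ ≠ r) (h₂ : p₂ ≠ r) (hd₁ : p₁ ∣ Nat.card G) (hd₂ : p₂ ∣ Nat.card G) (hA₁ : ¬ p₁ ∣ Nat.card A)
    (hA₂ : ¬ p₂ ∣ Nat.card A) : Fit.{u, v} S := by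
  have : Finite G := Finite.of_equiv S e.toEquiv
  have : IsSimpleGroup G := isSimpleGroup_of_equiv e
  have hna' : ¬ ∀ a b : G, a * b = b * a := by
    intro h
    apply hna
    intro a b
    apply e.injective
    rw [map_mul, map_mul]
    exact h _ _
  have hperf := commutator_eq_top hna'
  exact (fit_of_rgd hna' hr hG hp₁ hp₂ hne h₁ h₂ hd₁ hd₂ (noExt_of_mult' hp₁ hperf hM hA₁)
    (noExt_of_mult' hp₂ hperf hM hA₂)).congr e.symm

/-- a simple group with two Sylow subgroups of prime order -/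
theorem fit_of_order {S : Type u} [Group S] [Finite S] [IsSimpleGroup S] (hna : ¬ ∀ a b : S, a * b = b * a)
    {p₁ p₂ : ℕ} (hp₁ : p₁.Prime) (hp₂ : p₂.Prime) (hne : p₁ ≠ p₂) (hd₁ : p₁ ∣ Nat.card S) (hd₂ : p₂ ∣ Nat.card S)
    (hs₁ : ¬ p₁ ^ 2 ∣ Nat.card S) (hs₂ : ¬ p₂ ^ 2 ∣ Nat.card S) : Fit.{u, v} S := by
  have key : ∀ p : ℕ, p.Prime → ¬ p ^ 2 ∣ Nat.card S → (Nat.card S).factorization p ≤ 1 := by
    intro p hp h
    by_contra hcon
    exact h ((hp.pow_dvd_iff_le_factorization Nat.card_pos.ne').2 (by omega))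
  exact fit_of_two hna hp₁ hp₂ hne hd₁ hd₂ (cyclic_of_factorization_le_one hp₁ (key p₁ hp₁ hs₁))
    (cyclic_of_factorization_le_one hp₂ (key p₂ hp₂ hs₂))

theorem one_not_dvd {p : ℕ} (hp : p.Prime) : ¬ p ∣ Nat.card (Multiplicative (ZMod 1)) := by
  rw [show Nat.card (Multiplicative (ZMod 1)) = 1 by simp]
  exact fun h => hp.one_lt.ne' (Nat.dvd_one.1 h)

theorem gcd_not_dvd {p c m : ℕ} (hc : 0 < c) (hcp : c < p) : ¬ p ∣ Nat.card (Multiplicative (ZMod (Nat.gcd c m))) := by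
  have h0 : 0 < Nat.gcd c m := Nat.gcd_pos_of_pos_left _ hc
  have : NeZero (Nat.gcd c m) := ⟨h0.ne'⟩
  rw [show Nat.card (Multiplicative (ZMod (Nat.gcd c m))) = Nat.gcd c m by simp]
  intro h
  have h1 := Nat.le_of_dvd h0 h
  have h2 := Nat.le_of_dvd hc (Nat.gcd_dvd_left c m)
  omega

instance finite_gcd (m : ℕ) : Finite (Multiplicative (ZMod (Nat.gcd 3 m))) := by
  have : NeZero (Nat.gcd 3 m) := ⟨(Nat.gcd_pos_of_pos_left _ (by norm_num)).ne'⟩
  infer_instance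

instance finite_gcd' (m : ℕ) : Finite (Multiplicative (ZMod (Nat.gcd 2 m))) := by
  have : NeZero (Nat.gcd 2 m) := ⟨(Nat.gcd_pos_of_pos_left _ (by norm_num)).ne'⟩
  infer_instance

/-- a prime not dividing `q` is not the characteristic -/
theorem ne_char {F : Type*} [Field F] [Fintype F] (r : ℕ) [CharP F r] {p : ℕ} (h : ¬ p ∣ Fintype.card F) : p ≠ r := by
  rintro rfl
  apply h
  have : Fact (Nat.Prime p) := ⟨CharP.char_prime_of_ne_zero F (CharP.char_ne_zero_of_finite F p)⟩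
  obtain ⟨n, hn⟩ := FiniteField.card F p
  rw [hn.2]
  exact dvd_pow_self p n.2.ne'

section

variable {S : Type u} [Group S] [Finite S] [IsSimpleGroup S]

theorem exists_char {F : Type*} [Field F] [Fintype F] : ∃ r : ℕ, r.Prime ∧ CharP F r := by
  obtain ⟨r, hr⟩ := CharP.exists F
  exact ⟨r, CharP.char_prime_of_ne_zero F (CharP.char_ne_zero_of_finite F r), hr⟩

/-- `G₂(q)` -/
theorem fit_g2 (hna : ¬ ∀ a b : S, a * b = b * a) (h : Cfsg.Lie.IsoChevG2 S) : Fit.{u, v} S := by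
  obtain ⟨F, _, _, hF, ⟨e⟩⟩ := h
  obtain ⟨r, hr, hc⟩ := exists_char (F := F)
  have hcard := Cfsg.Agent.S1059.result (F := F) rfl
  have hcS : Nat.card S = Nat.card ↥(Cfsg.Lie.chevG2.group F) := Nat.card_congr e.toEquiv
  by_cases h5 : 5 ≤ Fintype.card F
  · set q := Fintype.card F with hq
    obtain ⟨p₁, hp₁, hd₁, h5₁⟩ := exists_three (x := q) (by omega)
    obtain ⟨p₂, hp₂, hd₂, h5₂⟩ := exists_three (x := q - 1) (by omega)
    refine fit_model hna e hr (Nodes.RGDChev.hasRGD_G2 F r) (Cfsg.Agent.S2100.result h5) hp₁ hp₂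
      (ne_three_six hp₁ (by omega) h5₁ hd₁ hd₂) (ne_char r (not_dvd_three hp₁ hd₁))
      (ne_char r (not_dvd_six hp₂ (by omega) hd₂)) ?_ ?_ (one_not_dvd hp₁) (one_not_dvd hp₂)
    · rw [hcard]
      exact (hd₁.trans (three_dvd (by omega))).mul_left _
    · rw [hcard]
      exact (hd₂.trans (six_dvd (by omega))).mul_left _
  · have h34 : Fintype.card F = 3 ∨ Fintype.card F = 4 := by omega
    rw [hcard] at hcS
    rcases h34 with h3 | h4
    · refine fit_of_order hna (p₁ := 7) (p₂ := 13) (by norm_num) (by norm_num) (by norm_num) ?_ ?_ ?_ ?_ <;>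
        rw [hcS, h3] <;> norm_num
    · refine fit_of_order hna (p₁ := 7) (p₂ := 13) (by norm_num) (by norm_num) (by norm_num) ?_ ?_ ?_ ?_ <;>
        rw [hcS, h4] <;> norm_num

/-- the two primes of `q⁴ + 1` and `q⁴ - q² + 1` -/
theorem fit_big (hna : ¬ ∀ a b : S, a * b = b * a) {F : Type} [Field F] [Fintype F] {G : Type w} [Group G]
    (e : S ≃* G) (r : ℕ) (hr : r.Prime) [CharP F r] (hG : HasRGD r G) {A : Type} [CommGroup A] [Finite A]
    (hM : Cfsg.HasSchurMultiplier G A) (hA : ∀ p, 5 ≤ p → ¬ p ∣ Nat.card A) {q c : ℕ} (hq : 2 ≤ q)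
    (hqF : ∀ p : ℕ, p.Prime → p ∣ Fintype.card F → p ∣ q) (hc : 0 < c) (hc5 : c < 5)
    (hd : (q ^ 8 - 1) * (q ^ 12 - 1) ∣ c * Nat.card G) : Fit.{u, v} S := by
  obtain ⟨p₁, hp₁, hd₁, h5₁⟩ := exists_eight (x := q) hq
  have hq2 : 2 ≤ q ^ 2 - 1 := by
    have : 2 ^ 2 ≤ q ^ 2 := Nat.pow_le_pow_left hq 2
    omega
  obtain ⟨p₂, hp₂, hd₂, h5₂⟩ := exists_three (x := q ^ 2 - 1) hq2
  have key : ∀ p : ℕ, p.Prime → 5 ≤ p → p ∣ c * Nat.card G → p ∣ Nat.card G := by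
    intro p hp h5 h
    rcases (Nat.Prime.dvd_mul hp).1 h with h | h
    · exact absurd (Nat.le_of_dvd hc h) (by omega)
    · exact h
  have h1 : 1 ≤ q ^ 2 := Nat.one_le_pow _ _ (by omega)
  refine fit_model hna e hr hG hM hp₁ hp₂ (ne_eight_twelve hp₁ (by omega) hd₁ hd₂)
    (ne_char r fun h => not_dvd_eight hp₁ hd₁ (hqF _ hp₁ h))
    (ne_char r fun h => not_dvd_six hp₂ h1 hd₂ (dvd_pow (hqF _ hp₂ h) two_ne_zero)) ?_ ?_ (hA p₁ h5₁) (hA p₂ h5₂)
  · exact key p₁ hp₁ h5₁ (((hd₁.trans (eight_dvd (by omega))).mul_right _).trans hd)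
  · refine key p₂ hp₂ h5₂ (((hd₂.trans ?_).mul_left _).trans hd)
    have h2 := six_dvd (x := q ^ 2) h1
    rwa [← pow_mul] at h2

theorem fit_f4 (hna : ¬ ∀ a b : S, a * b = b * a) (h : Cfsg.Lie.IsoF4 S) : Fit.{u, v} S := by
  obtain ⟨F, _, _, ⟨e⟩⟩ := h
  obtain ⟨r, hr, hc⟩ := exists_char (F := F)
  have hcard := Cfsg.Agent.S1062.result (F := F) rfl
  have h2 : 2 ≤ Fintype.card F := Fintype.one_lt_card
  by_cases h3 : 3 ≤ Fintype.card F
  · refine fit_big hna e r hr (Nodes.RGDChev.hasRGD_F4 F r) (Cfsg.Agent.S2103.result h3) (fun p hp => ?_) (q := Fintype.card F) h2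
      (fun p _ h => h) one_pos (by norm_num) ?_
    · rw [show Nat.card (Multiplicative (ZMod 1)) = 1 by simp, Nat.dvd_one]
      omega
    · rw [one_mul, hcard, mul_assoc]
      exact Dvd.intro_left _ rfl
  · have h2' : Fintype.card F = 2 := by omega
    have hcS : Nat.card S = Nat.card ↥(Cfsg.Lie.chevF4.group F) := Nat.card_congr e.toEquiv
    rw [hcard, h2'] at hcS
    refine fit_of_order hna (p₁ := 13) (p₂ := 17) (by norm_num) (by norm_num) (by norm_num) ?_ ?_ ?_ ?_ <;>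
      rw [hcS] <;> norm_num

theorem fit_e6 (hna : ¬ ∀ a b : S, a * b = b * a) (h : Cfsg.Lie.IsoChevE6 S) : Fit.{u, v} S := by
  obtain ⟨F, _, _, ⟨e⟩⟩ := h
  obtain ⟨r, hr, hc⟩ := exists_char (F := F)
  have hcard := Cfsg.Agent.S1063.result (F := F) rfl
  have h2 : 2 ≤ Fintype.card F := Fintype.one_lt_card
  refine fit_big hna e r hr (Nodes.RGDChev.hasRGD_E6 F r) (Cfsg.Agent.S2105.result rfl) (fun p hp => gcd_not_dvd (by norm_num) (by omega))
    (q := Fintype.card F) h2 (fun p _ h => h) (c := Nat.gcd 3 (Fintype.card F - 1))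
    (Nat.gcd_pos_of_pos_left _ (by norm_num))
    (lt_of_le_of_lt (Nat.le_of_dvd (by norm_num) (Nat.gcd_dvd_left 3 _)) (by norm_num)) ?_
  rw [hcard]
  exact ⟨Fintype.card F ^ 36 * (Fintype.card F ^ 2 - 1) * (Fintype.card F ^ 5 - 1) * (Fintype.card F ^ 6 - 1) *
    (Fintype.card F ^ 9 - 1), by ring⟩

theorem fit_e7 (hna : ¬ ∀ a b : S, a * b = b * a) (h : Cfsg.Lie.IsoE7 S) : Fit.{u, v} S := by
  obtain ⟨F, _, _, ⟨e⟩⟩ := h
  obtain ⟨r, hr, hc⟩ := exists_char (F := F)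
  have hcard := Cfsg.Agent.S1064.result (F := F) rfl
  have h2 : 2 ≤ Fintype.card F := Fintype.one_lt_card
  refine fit_big hna e r hr (Nodes.RGDChev.hasRGD_E7 F r) (Cfsg.Agent.S2106.result rfl) (fun p hp => gcd_not_dvd (by norm_num) (by omega))
    (q := Fintype.card F) h2 (fun p _ h => h) (c := Nat.gcd 2 (Fintype.card F - 1))
    (Nat.gcd_pos_of_pos_left _ (by norm_num))
    (lt_of_le_of_lt (Nat.le_of_dvd (by norm_num) (Nat.gcd_dvd_left 2 _)) (by norm_num)) ?_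
  rw [hcard]
  exact ⟨Fintype.card F ^ 63 * (Fintype.card F ^ 2 - 1) * (Fintype.card F ^ 6 - 1) * (Fintype.card F ^ 10 - 1) *
    (Fintype.card F ^ 14 - 1) * (Fintype.card F ^ 18 - 1), by ring⟩

theorem fit_e8 (hna : ¬ ∀ a b : S, a * b = b * a) (h : Cfsg.Lie.IsoE8 S) : Fit.{u, v} S := by
  obtain ⟨F, _, _, ⟨e⟩⟩ := h
  obtain ⟨r, hr, hc⟩ := exists_char (F := F)
  have hcard := Cfsg.Agent.S1065.result (F := F) rfl
  have h2 : 2 ≤ Fintype.card F := Fintype.one_lt_card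
  refine fit_big hna e r hr (Nodes.RGDChev.hasRGD_E8 F r) Cfsg.Agent.S2107.result (fun p hp => ?_)
    (q := Fintype.card F) h2 (fun p _ h => h) (c := 1) one_pos (by norm_num) ?_
  · rw [show Nat.card (Multiplicative (ZMod 1)) = 1 by simp, Nat.dvd_one]
    omega
  rw [hcard, one_mul]
  exact ⟨Fintype.card F ^ 120 * (Fintype.card F ^ 2 - 1) * (Fintype.card F ^ 14 - 1) * (Fintype.card F ^ 18 - 1) *
    (Fintype.card F ^ 20 - 1) * (Fintype.card F ^ 24 - 1) * (Fintype.card F ^ 30 - 1), by ring⟩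

end

end Cfsg.Agent.H682.CT
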