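import Cfsg.Agent.H682.CT.Exc
import Cfsg.Agent.S1066
import Cfsg.Agent.S1067
import Cfsg.Agent.S1069
import Cfsg.Agent.S1156
import Cfsg.Agent.S2108
import Cfsg.Agent.S2110

/-!
# `Fit` for the twisted exceptional groups `²E₆`, `³D₄`, `²G₂`
-/

set_option autoImplicit false

namespace Cfsg.Agent.H682.CT

open Arith

universe u v w

variable {S : Type u} [Group S] [Finite S] [IsSimpleGroup S]

theorem dvd_of_pow_card {F : Type*} [Fintype F] {q k : ℕ} (h : Fintype.card F = q ^ k) (p : ℕ) (hp : p.Prime)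
    (hd : p ∣ Fintype.card F) : p ∣ q := by
  rw [h] at hd
  exact hp.dvd_of_dvd_pow hd

theorem fit_2e6 (hna : ¬ ∀ a b : S, a * b = b * a) (h : Cfsg.Lie.Iso2E6 S) : Fit.{u, v} S := by
  obtain ⟨K, _, _, q, hq, hK, ⟨e⟩⟩ := h
  obtain ⟨r, hr, hc⟩ := exists_char (F := K)
  have hcard := Cfsg.Agent.S1066.result hq hK
  have h2 : 2 ≤ q := hq.two_le
  by_cases h3 : q = 2
  · have hcS : Nat.card S = Nat.card ↥(Cfsg.Lie.twistedE6 K q) := Nat.card_congr e.toEquiv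
    rw [← hcS] at hcard
    subst h3
    have hN : Nat.card S = 2 ^ 36 * 33 * 63 * 255 * 513 * 4095 := by
      have : 3 * Nat.card S = 3 * (2 ^ 36 * 33 * 63 * 255 * 513 * 4095) := by
        have h4 : Nat.gcd 3 (2 + 1) = 3 := by norm_num
        rw [h4] at hcard
        rw [hcard]
        norm_num
      omega
    refine fit_of_order hna (p₁ := 13) (p₂ := 17) (by norm_num) (by norm_num) (by norm_num) ?_ ?_ ?_ ?_ <;>
      rw [hN] <;> norm_num
  · refine fit_big hna e r hr (Nodes.RGDTwE6.hasRGD hq hK r) (Cfsg.Agent.S2108.result hq hK h3)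
      (fun p hp => gcd_not_dvd (by norm_num) (by omega)) (q := q) h2 (dvd_of_pow_card hK)
      (c := Nat.gcd 3 (q + 1)) (Nat.gcd_pos_of_pos_left _ (by norm_num))
      (lt_of_le_of_lt (Nat.le_of_dvd (by norm_num) (Nat.gcd_dvd_left 3 _)) (by norm_num)) ?_
    rw [hcard]
    exact ⟨q ^ 36 * (q ^ 2 - 1) * (q ^ 5 + 1) * (q ^ 6 - 1) * (q ^ 9 + 1), by ring⟩

theorem fit_3d4 (hna : ¬ ∀ a b : S, a * b = b * a) (h : Cfsg.Lie.Iso3D4 S) : Fit.{u, v} S := by
  obtain ⟨K, _, _, q, hq, hK, ⟨e⟩⟩ := h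
  obtain ⟨r, hr, hc⟩ := exists_char (F := K)
  have hcard := Cfsg.Agent.S1067.result hq hK
  have h2 : 2 ≤ q := hq.two_le
  have hqF := dvd_of_pow_card hK
  obtain ⟨p₁, hp₁, hd₁, h5₁⟩ := exists_three (x := q) h2
  have hq2 : 2 ≤ q ^ 2 - 1 := by
    have : 2 ^ 2 ≤ q ^ 2 := Nat.pow_le_pow_left h2 2
    omega
  have h1 : 1 ≤ q ^ 2 := Nat.one_le_pow _ _ (by omega)
  obtain ⟨p₂, hp₂, hd₂, h5₂⟩ := exists_three (x := q ^ 2 - 1) hq2
  refine fit_model hna e hr (Nodes.RGDTwD4.hasRGD hq hK r) (Cfsg.Agent.S2110.result hq hK) hp₁ hp₂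
    (ne_three_twelve hp₁ (by omega) h5₁ hd₁ hd₂) (ne_char r fun h => not_dvd_three hp₁ hd₁ (hqF _ hp₁ h))
    (ne_char r fun h => not_dvd_six hp₂ h1 hd₂ (dvd_pow (hqF _ hp₂ h) two_ne_zero)) ?_ ?_ (one_not_dvd hp₁)
    (one_not_dvd hp₂)
  · rw [hcard]
    exact ((hd₁.trans (three_dvd (by omega))).mul_left _).mul_right _
  · rw [hcard]
    have h2 := six_dvd' (x := q ^ 2) h1
    rw [← pow_mul, ← pow_mul] at h2
    exact (hd₂.trans h2).mul_left _

theorem mod_seven (m : ℕ) : 3 ^ (2 * m + 1) % 7 = 3 ∨ 3 ^ (2 * m + 1) % 7 = 6 ∨ 3 ^ (2 * m + 1) % 7 = 5 := by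
  induction m with
  | zero => left; norm_num
  | succ m ih =>
    have : 3 ^ (2 * (m + 1) + 1) = 3 ^ (2 * m + 1) * 9 := by ring
    rw [this]
    omega

theorem mod_eight (m : ℕ) : 3 ^ (2 * m + 1) % 8 = 3 := by
  induction m with
  | zero => norm_num
  | succ m ih =>
    have : 3 ^ (2 * (m + 1) + 1) = 3 ^ (2 * m + 1) * 9 := by ring
    rw [this]
    omega

theorem fit_ree (hna : ¬ ∀ a b : S, a * b = b * a) (h : Cfsg.Lie.IsoRee S) : Fit.{u, v} S := by
  obtain ⟨K, _, _, m, hm, hK, ⟨e⟩⟩ := h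
  have hcard := Cfsg.Agent.S1069.result hK
  have : Finite ↥(Cfsg.Lie.twistedG2 K (3 ^ m)) := Finite.of_equiv S e.toEquiv
  have : IsSimpleGroup ↥(Cfsg.Lie.twistedG2 K (3 ^ m)) := isSimpleGroup_of_equiv e
  have hna' : ¬ ∀ a b : ↥(Cfsg.Lie.twistedG2 K (3 ^ m)), a * b = b * a := by
    intro h
    apply hna
    intro a b
    apply e.injective
    rw [map_mul, map_mul]
    exact h _ _
  set q := 3 ^ (2 * m + 1) with hq
  have h7 := mod_seven m
  rw [← hq] at h7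
  have h8 := mod_eight m
  rw [← hq] at h8
  have hq27 : 27 ≤ q := by
    calc 27 = 3 ^ 3 := by norm_num
      _ ≤ 3 ^ (2 * m + 1) := Nat.pow_le_pow_right (by norm_num) (by omega)
  have hq3 : 3 ∣ q := dvd_pow_self 3 (by omega)
  have h73 : 7 ∣ q ^ 3 + 1 := by
    have : (q ^ 3 + 1) % 7 = 0 := by
      rw [Nat.add_mod, Nat.pow_mod]
      rcases h7 with h7 | h7 | h7 <;> rw [h7]
    omega
  obtain ⟨p, hp, hd⟩ := Nat.exists_prime_and_dvd (n := (q - 1) / 2) (by omega)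
  have hdq : p ∣ q - 1 := hd.trans ⟨2, by omega⟩
  have h2 : p ≠ 2 := by
    rintro rfl
    omega
  have h3 : p ≠ 3 := by
    rintro rfl
    omega
  have hp7 : 7 ≠ p := by
    rintro rfl
    omega
  have : Fact (Nat.Prime 7) := ⟨by norm_num⟩
  have : Fact p.Prime := ⟨hp⟩
  have hp3 : 3 < p := by
    have := hp.two_le
    omega
  refine (fit_of_two hna' (p₁ := 7) (p₂ := p) (by norm_num) hp hp7 ?_ ?_
    (fun P => Cfsg.Agent.S1156.result hm hK (by norm_num) P) (fun P => Cfsg.Agent.S1156.result hm hK hp3 P)).congr e.symm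
  · rw [hcard]
    exact h73.mul_left _
  · rw [hcard]
    exact (hdq.mul_left _).mul_right _

end Cfsg.Agent.H682.CT
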