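import Cfsg.Agent.H682.CT.Sub
import Cfsg.Agent.Transfer.TausskyTwoGroup

/-!
# The last step, normal `p'`-subgroups, and the choice of the next normal subgroup
-/

set_option autoImplicit false
set_option linter.unusedSectionVars false

namespace Cfsg.Agent.H682.CT

open Subgroup Cfsg Cfsg.Agent.Characters.Core
open scoped commutatorElement

universe u v

namespace Cfg

variable {p : ℕ} [hp : Fact p.Prime] {Q : Type v} [Group Q] {G : Type u} [Group G] [Finite G]

/-- The last step: if the kernel of `f` is `Z`, then `NoExt p` gives a contradiction. -/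
theorem final (c : Cfg p Q G) (hs : c.Strong) (hE : NoExt.{v, u} p Q) (hQ : commutator Q = ⊤)
    (hd : p ∣ Nat.card Q) (hR : ∀ k : c.K, c.f k = 1 → (k : G) ∈ c.Z) : False := by
  have hKn := c.hK
  have hker : c.f.ker ≤ center c.K := by
    intro k hk
    rw [mem_center_iff]
    intro g
    exact Subtype.ext (mem_center_iff.1 (hs.cent (hR k hk)) g)
  have hpk : IsPGroup p c.f.ker := by
    have h1 : (c.f.ker.map c.K.subtype) ≤ c.P := by
      rintro _ ⟨k, hk, rfl⟩
      exact c.hZP (hR k hk)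
    have h2 : IsPGroup p (c.f.ker.map c.K.subtype) := c.hP.to_le h1
    exact h2.of_injective (c.f.ker.equivMapOfInjective c.K.subtype c.K.subtype_injective).toMonoidHom
      (MulEquiv.injective _)
  have hbot := hE c.K c.f c.hf hker hpk
  set D : Subgroup G := ⁅c.K, c.K⁆ with hD
  have hDmap : (_root_.commutator c.K).map c.K.subtype = D := by
    rw [_root_.commutator_def c.K, Subgroup.map_commutator, ← MonoidHom.range_eq_map, Subgroup.range_subtype]
  have hDn : D.Normal := inferInstance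
  -- `p` divides `|D|`
  have hpD : p ∣ Nat.card D := by
    have h1 : Nat.card D = Nat.card (_root_.commutator c.K) := by
      rw [← hDmap]
      exact (Nat.card_congr ((_root_.commutator c.K).equivMapOfInjective c.K.subtype
        c.K.subtype_injective).toEquiv).symm
    rw [h1]
    refine hd.trans ?_
    refine Subgroup.card_dvd_of_surjective (c.f.comp (_root_.commutator c.K).subtype) ?_
    intro q
    have h2 : q ∈ (_root_.commutator c.K).map c.f := by
      rw [_root_.commutator_def c.K, Subgroup.map_commutator, ← MonoidHom.range_eq_map,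
        MonoidHom.range_eq_top.2 c.hf, ← _root_.commutator_def, hQ]
      trivial
    obtain ⟨x, hx, rfl⟩ := h2
    exact ⟨⟨x, hx⟩, rfl⟩
  -- `P ∩ D` is not trivial
  have hne : D.subgroupOf c.P ≠ ⊥ := by
    intro h
    have h1 : c.P.relIndex D = Nat.card D := by
      rw [relIndex, index_eq_card]
      have h2 : c.P.subgroupOf D = ⊥ := by
        rw [eq_bot_iff]
        intro x hx
        have h3 : (⟨x, hx⟩ : c.P) ∈ D.subgroupOf c.P := x.2
        rw [h, mem_bot] at h3
        rw [mem_bot]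
        exact Subtype.ext (congrArg (fun t : c.P => (t : G)) h3)
      rw [h2]
      exact Nat.card_congr (QuotientGroup.quotientBot (G := D)).toEquiv
    have h4 := relIndex_dvd_index_of_normal' c.P D
    rw [h1] at h4
    exact c.hPi (hpD.trans h4)
  have hDPn : (D.subgroupOf c.P).Normal := hDn.subgroupOf _
  obtain ⟨y, hyD, hyc, hyo⟩ :=
    Cfsg.Agent.Transfer.TausskyTwoGroup.exists_ne_one_mem_inf_center c.hP (D.subgroupOf c.P) hne
  -- `ψ y ≠ 0`
  obtain ⟨w, hw1, hw⟩ := exists_scalar c.irr (z := y) (by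
    intro g
    congr 1
    rw [commutatorElement_def, mem_center_iff.1 hyc g]
    group)
  have hy0 : c.ψ y ≠ 0 := by
    have h1 := hw 1
    rw [one_mul] at h1
    rw [h1]
    refine mul_ne_zero ?_ (isIrr_apply_one_ne_zero c.irr)
    intro h0
    rw [h0, norm_zero] at hw1
    exact zero_ne_one hw1
  have hyZ : (y : G) ∈ c.Z := by
    by_contra h
    exact hy0 (c.van y h)
  have hyD' : (y : G) ∈ (_root_.commutator c.K).map c.K.subtype := by
    rw [hDmap]
    exact hyD
  obtain ⟨k, hk, hky⟩ := hyD'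
  have hfk : c.f k = 1 := by
    obtain ⟨h, h'⟩ := c.hZR y hyZ
    have : k = ⟨y, h⟩ := Subtype.ext hky
    rw [this]
    exact h'
  have h1 : k ∈ c.f.ker ⊓ _root_.commutator c.K := ⟨hfk, hk⟩
  rw [hbot, mem_bot] at h1
  have h2 : y = 1 := by
    apply Subtype.ext
    rw [← hky, h1]
    rfl
  exact hyo h2

/-- Normal `p'`-subgroups. -/
theorem step_L (c : Cfg p Q G) (L : Subgroup G) [L.Normal] (hL : ¬ p ∣ Nat.card L)
    (hLR : ∀ a ∈ L, ∃ h : a ∈ c.K, c.f ⟨a, h⟩ = 1) (hne : L ≠ ⊥) :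
    ∃ (G₁ : Type u) (_ : Group G₁) (_ : Finite G₁) (c' : Cfg p Q G₁), c'.Z.index < c.Z.index := by
  have hco : ∀ x ∈ c.P, x ∈ L → x = 1 := by
    intro x hxP hxL
    obtain ⟨n, hn⟩ := c.hP ⟨x, hxP⟩
    have h1 : x ^ p ^ n = 1 := congrArg Subtype.val hn
    have h2 : orderOf x ∣ p ^ n := orderOf_dvd_of_pow_eq_one h1
    have h3 : orderOf x ∣ Nat.card L := by
      rw [← Subgroup.orderOf_mk x hxL]
      exact orderOf_dvd_natCard _
    obtain ⟨k, hk, hk'⟩ := (Nat.dvd_prime_pow hp.out).1 h2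
    rcases Nat.eq_zero_or_pos k with rfl | hk0
    · rw [pow_zero] at hk'
      exact orderOf_eq_one_iff.1 hk'
    · exfalso
      apply hL
      refine dvd_trans ?_ h3
      rw [hk']
      exact dvd_pow_self p hk0.ne'
  have hk : ∀ x, QuotientGroup.mk' L x = 1 → ∃ h : x ∈ c.K, c.f ⟨x, h⟩ = 1 := by
    intro x hx
    exact hLR x ((QuotientGroup.eq_one_iff x).1 hx)
  have hψ : ∀ x : c.P, QuotientGroup.mk' L x = 1 → c.ψ x = c.ψ 1 := by
    intro x hx
    have : x = 1 := Subtype.ext (hco x x.2 ((QuotientGroup.eq_one_iff (x : G)).1 hx))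
    rw [this]
  refine ⟨G ⧸ L, inferInstance, inferInstance,
    c.quot (QuotientGroup.mk' L) (QuotientGroup.mk'_surjective _) hk hψ, ?_⟩
  show (c.Z.map (QuotientGroup.mk' L)).index < c.Z.index
  rw [index_map, QuotientGroup.ker_mk', MonoidHom.range_eq_top.2 (QuotientGroup.mk'_surjective _), index_top,
    mul_one]
  apply index_strictAnti
  refine lt_of_le_of_ne le_sup_left fun h => hne ?_
  rw [eq_bot_iff]
  intro x hx
  have h1 : x ∈ c.Z := by rw [h]; exact mem_sup_right hx
  rw [mem_bot]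
  exact hco x (c.hZP h1) hx

/-- The kernel of `f` as a subgroup of `G`. -/
def R (c : Cfg p Q G) : Subgroup G := c.f.ker.map c.K.subtype

omit hp [Finite G] in
theorem mem_R {c : Cfg p Q G} {x : G} : x ∈ c.R ↔ ∃ h : x ∈ c.K, c.f ⟨x, h⟩ = 1 := by
  constructor
  · rintro ⟨k, hk, rfl⟩
    exact ⟨k.2, hk⟩
  · rintro ⟨h, h'⟩
    exact ⟨⟨x, h⟩, h', rfl⟩

omit hp [Finite G] in
theorem R_normal (c : Cfg p Q G) : c.R.Normal := by
  refine ⟨?_⟩
  rintro _ ⟨k, hk, rfl⟩ g
  exact ⟨⟨g * k * g⁻¹, c.hK.conj_mem _ k.2 g⟩, c.hR g k hk, rfl⟩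

omit hp [Finite G] in
theorem R_solvable (c : Cfg p Q G) : Group.IsSolvable c.R := by
  have := c.hRs
  exact Group.isSolvable_of_surjective
    (f := (c.f.ker.equivMapOfInjective c.K.subtype c.K.subtype_injective).toMonoidHom) (MulEquiv.surjective _)

/-- If `Z ≠ R` there is a normal subgroup `A`, `Z < A ≤ R`, with `A / Z` abelian. -/
theorem exists_A (c : Cfg p Q G) (hs : c.Strong) (hR : ∃ x ∈ c.R, x ∉ c.Z) :
    ∃ A : Subgroup G, A.Normal ∧ c.Z < A ∧ A ≤ c.R ∧ ∀ a ∈ A, ∀ b ∈ A, ⁅a, b⁆ ∈ c.Z := by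
  have hRn := c.R_normal
  have hRs := c.R_solvable
  obtain ⟨N, ⟨hN1, hN2, hN3⟩, hmin⟩ : ∃ N : Subgroup G, Minimal (fun N : Subgroup G => N.Normal ∧ N ≤ c.R ∧
      ¬ N ≤ c.Z) N := by
    apply Set.Finite.exists_minimal (Set.toFinite _)
    obtain ⟨x, hx, hx'⟩ := hR
    exact ⟨c.R, hRn, le_rfl, fun h => hx' (h hx)⟩
  have hcomm : ⁅N, N⁆ ≤ c.Z := by
    by_contra hcon
    have h1 : ⁅N, N⁆ ≤ N := Subgroup.commutator_le_left N N
    have h2 : N ≤ ⁅N, N⁆ := hmin ⟨inferInstance, h1.trans hN2, hcon⟩ h1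
    have hne : N.subgroupOf c.R ≠ ⊥ := by
      intro h
      apply hN3
      intro x hx
      have h3 : (⟨x, hN2 hx⟩ : c.R) ∈ N.subgroupOf c.R := hx
      rw [h, mem_bot] at h3
      have h4 : x = 1 := congrArg Subtype.val h3
      rw [h4]
      exact one_mem _
    have h3 := Group.IsSolvable.commutator_lt_of_ne_bot hne
    apply h3.not_ge
    intro x hx
    have h4 : (x : G) ∈ ⁅N, N⁆ := h2 hx
    have h5 : (⁅N.subgroupOf c.R, N.subgroupOf c.R⁆).map c.R.subtype = ⁅N, N⁆ := by
      rw [Subgroup.map_commutator, subgroupOf_map_subtype, inf_eq_left.2 hN2]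
    rw [← h5] at h4
    obtain ⟨y, hy, hyx⟩ := h4
    have : y = x := Subtype.ext hyx
    rwa [← this]
  have hZn := c.hZn
  refine ⟨c.Z ⊔ N, inferInstance, lt_of_le_of_ne le_sup_left fun h => hN3 ?_, sup_le ?_ hN2, ?_⟩
  · rw [h]
    exact le_sup_right
  · intro z hz
    exact mem_R.2 (c.hZR z hz)
  · intro a ha b hb
    obtain ⟨z, hz, n, hn, rfl⟩ := Subgroup.mem_sup_of_normal_left.1 ha
    obtain ⟨z', hz', n', hn', rfl⟩ := Subgroup.mem_sup_of_normal_left.1 hb
    have e1 : ∀ t : G, z * t = t * z := fun t => (mem_center_iff.1 (hs.cent hz) t).symm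
    have e2 : ∀ t : G, z' * t = t * z' := fun t => (mem_center_iff.1 (hs.cent hz') t).symm
    have : ⁅z * n, z' * n'⁆ = ⁅n, n'⁆ := by
      rw [commutatorElement_def, commutatorElement_def, _root_.mul_inv_rev, _root_.mul_inv_rev]
      calc z * n * (z' * n') * (n⁻¹ * z⁻¹) * (n'⁻¹ * z'⁻¹)
          = z * (n * (z' * n') * n⁻¹) * z⁻¹ * n'⁻¹ * z'⁻¹ := by group
        _ = (n * (z' * n') * n⁻¹) * z * z⁻¹ * n'⁻¹ * z'⁻¹ := by rw [e1]
        _ = n * (z' * (n' * n⁻¹)) * n'⁻¹ * z'⁻¹ := by group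
        _ = n * ((n' * n⁻¹) * z') * n'⁻¹ * z'⁻¹ := by rw [e2]
        _ = n * (n' * n⁻¹) * (z' * n'⁻¹) * z'⁻¹ := by group
        _ = n * (n' * n⁻¹) * (n'⁻¹ * z') * z'⁻¹ := by rw [e2]
        _ = n * n' * n⁻¹ * n'⁻¹ := by group
    rw [this]
    exact hcomm (Subgroup.commutator_mem_commutator hn hn')

/-- In a normal subgroup `A` with `⁅A, A⁆ ≤ Z` either `A` is a `p`-group or there is a nontrivial
normal `p'`-subgroup of `G` in `A`. -/
theorem pGroup_or (c : Cfg p Q G) (hs : c.Strong) (A : Subgroup G) [hA : A.Normal]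
    (hcom : ∀ a ∈ A, ∀ b ∈ A, ⁅a, b⁆ ∈ c.Z) :
    IsPGroup p A ∨ ∃ L : Subgroup G, L.Normal ∧ L ≤ A ∧ L ≠ ⊥ ∧ ¬ p ∣ Nat.card L := by
  have hnil : Group.IsNilpotent A := by
    have hle : commutator A ≤ center A := by
      rw [_root_.commutator_def, Subgroup.commutator_le]
      intro a _ b _
      rw [mem_center_iff]
      intro g
      exact Subtype.ext (mem_center_iff.1 (hs.cent (hcom a a.2 b b.2)) g)
    have : Group.IsNilpotent (A ⧸ _root_.commutator A) := (inferInstance : Group.IsNilpotent (Abelianization A))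
    refine Subgroup.isNilpotent_of_ker_le_center (QuotientGroup.mk' (_root_.commutator A)) ?_
    rw [QuotientGroup.ker_mk']
    exact hle
  by_cases h : ∃ q : ℕ, q.Prime ∧ q ≠ p ∧ q ∣ Nat.card A
  · right
    obtain ⟨q, hq, hqp, hqA⟩ := h
    have : Fact q.Prime := ⟨hq⟩
    let S : Sylow q A := default
    have hSn : (S : Subgroup A).Normal := inferInstance
    have hSc : (S : Subgroup A).Characteristic := Sylow.characteristic_of_normal S hSn
    refine ⟨(S : Subgroup A).map A.subtype, inferInstance, map_subtype_le _, ?_, ?_⟩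
    · intro h0
      have h1 : Nat.card (S : Subgroup A) = 1 := by
        rw [Subgroup.card_eq_one]
        rwa [Subgroup.map_eq_bot_iff_of_injective _ A.subtype_injective] at h0
      have h2 := S.card_eq_multiplicity
      rw [h1] at h2
      have h3 : (Nat.card A).factorization q ≠ 0 := by
        have := (hq.dvd_iff_one_le_factorization Nat.card_pos.ne').1 hqA
        omega
      exact (Nat.one_lt_pow h3 hq.one_lt).ne h2
    · intro h0
      have h1 : Nat.card ((S : Subgroup A).map A.subtype) = Nat.card (S : Subgroup A) :=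
        (Nat.card_congr ((S : Subgroup A).equivMapOfInjective A.subtype A.subtype_injective).toEquiv).symm
      rw [h1, S.card_eq_multiplicity] at h0
      exact hqp ((Nat.prime_dvd_prime_iff_eq hp.out hq).1 (hp.out.dvd_of_dvd_pow h0)).symm
  · left
    push Not at h
    rw [IsPGroup.iff_card]
    refine ⟨_, Nat.eq_prime_pow_of_unique_prime_dvd Nat.card_pos.ne' ?_⟩
    intro q hq hqd
    by_contra hne
    exact h q hq hne hqd

end Cfg

end Cfsg.Agent.H682.CT
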