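import Cfsg.Agent.H682.CT.Sub

/-!
# `NoIdx` and `NoExt` for powers
-/

set_option autoImplicit false
set_option linter.unusedSectionVars false

namespace Cfsg.Agent.H682.CT

open Subgroup
open scoped commutatorElement

universe u v

variable {T : Type u} [Group T] {m : ℕ}

theorem commutator_pi (hT : commutator T = ⊤) : commutator (Fin m → T) = ⊤ := by
  rw [eq_top_iff]
  intro x _
  refine Subgroup.pi_mem_of_mulSingle_mem x fun i => ?_
  have h1 : (commutator T).map (MonoidHom.mulSingle (fun _ : Fin m => T) i) ≤ commutator (Fin m → T) := by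
    rw [_root_.commutator_def T, Subgroup.map_commutator, _root_.commutator_def]
    exact Subgroup.commutator_mono le_top le_top
  apply h1
  rw [hT]
  exact ⟨x i, trivial, rfl⟩

theorem range_mulSingle_normal (i : Fin m) : (MonoidHom.mulSingle (fun _ : Fin m => T) i).range.Normal := by
  refine ⟨?_⟩
  rintro _ ⟨t, rfl⟩ g
  refine ⟨g i * t * (g i)⁻¹, ?_⟩
  funext j
  simp only [MonoidHom.mulSingle_apply, Pi.mul_apply, Pi.inv_apply]
  by_cases h : j = i
  · subst h
    simp
  · simp [Pi.mulSingle_eq_of_ne h]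

theorem NoIdx.pi [Finite T] {p : ℕ} (hp : p.Prime) (h : NoIdx p T) : NoIdx p (Fin m → T) := by
  intro H k hk
  rw [eq_top_iff]
  intro x _
  refine Subgroup.pi_mem_of_mulSingle_mem x fun i => ?_
  have hn := range_mulSingle_normal (T := T) i
  have h1 := relIndex_dvd_index_of_normal' H (MonoidHom.mulSingle (fun _ : Fin m => T) i).range
  rw [hk] at h1
  obtain ⟨j, -, hj⟩ := (Nat.dvd_prime_pow hp).1 h1
  have h2 := h (H.comap (MonoidHom.mulSingle (fun _ : Fin m => T) i)) j (by rw [index_comap, hj])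
  have h3 : x i ∈ H.comap (MonoidHom.mulSingle (fun _ : Fin m => T) i) := by rw [h2]; trivial
  exact h3

theorem NoExt.pi {p : ℕ} (hT : commutator T = ⊤) (h : NoExt.{u, v} p T) : NoExt.{u, v} p (Fin m → T) := by
  intro E _ _ f hf hz hp
  let S : Fin m → Subgroup E := fun i => (MonoidHom.mulSingle (fun _ : Fin m => T) i).range.comap f
  have hS : ∀ i x, x ∈ S i ↔ ∃ t : T, f x = Pi.mulSingle i t := by
    intro i x
    constructor
    · rintro ⟨t, ht⟩
      exact ⟨t, ht.symm⟩
    · rintro ⟨t, ht⟩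
      exact ⟨t, ht.symm⟩
  let L : Fin m → Subgroup E := fun i => ⁅S i, S i⁆
  have hLS : ∀ i, L i ≤ S i := fun i => Subgroup.commutator_le_self _
  -- `ker f ∩ L i = 1`
  have hLk : ∀ i x, x ∈ L i → f x = 1 → x = 1 := by
    intro i x hx hfx
    let fi : S i →* T := (Pi.evalMonoidHom (fun _ : Fin m => T) i).comp (f.comp (S i).subtype)
    have hfi : ∀ y : S i, fi y = f y i := fun y => rfl
    have hsurj : Function.Surjective fi := by
      intro t
      obtain ⟨y, hy⟩ := hf (Pi.mulSingle i t)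
      refine ⟨⟨y, (hS i y).2 ⟨t, hy⟩⟩, ?_⟩
      rw [hfi, hy, Pi.mulSingle_eq_same]
    have hk : ∀ y : S i, fi y = 1 → f y = 1 := by
      intro y hy
      obtain ⟨t, ht⟩ := (hS i y).1 y.2
      rw [hfi, ht, Pi.mulSingle_eq_same] at hy
      rw [ht, hy, Pi.mulSingle_one]
    have hker : fi.ker ≤ center (S i) := by
      intro y hy
      rw [mem_center_iff]
      intro g
      exact Subtype.ext (mem_center_iff.1 (hz (hk y hy)) g)
    have hpk : IsPGroup p fi.ker := by
      refine hp.of_injective (⟨⟨fun y => ⟨(y : S i), hk _ y.2⟩, rfl⟩, fun _ _ => rfl⟩ : fi.ker →* f.ker) ?_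
      intro a b hab
      exact Subtype.ext (Subtype.ext (congrArg (fun t : f.ker => (t : E)) hab))
    have h1 := h (S i) fi hsurj hker hpk
    have h2 : (_root_.commutator (S i)).map (S i).subtype = L i := by
      rw [_root_.commutator_def (S i), Subgroup.map_commutator, ← MonoidHom.range_eq_map, Subgroup.range_subtype]
    rw [← h2] at hx
    obtain ⟨y, hy, rfl⟩ := hx
    have h3 : y ∈ fi.ker ⊓ _root_.commutator (S i) := mem_inf.2 ⟨by
      rw [MonoidHom.mem_ker, hfi]
      exact congrFun hfx i, hy⟩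
    rw [h1, mem_bot] at h3
    rw [h3]
    rfl
  -- commuting
  have hcomm : ∀ i j, i ≠ j → ∀ x ∈ S i, ∀ y ∈ L j, Commute x y := by
    intro i j hij x hx y hy
    have h1 : L j ≤ centralizer {x} := by
      rw [Subgroup.commutator_le]
      intro a ha b hb
      rw [mem_centralizer_singleton_iff]
      have key : ∀ c ∈ S j, ∃ z ∈ f.ker, x * c = z * c * x := by
        intro c hc
        refine ⟨x * c * x⁻¹ * c⁻¹, ?_, by group⟩
        obtain ⟨t, ht⟩ := (hS i x).1 hx
        obtain ⟨s, hs⟩ := (hS j c).1 hc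
        rw [MonoidHom.mem_ker, map_mul, map_mul, map_mul, map_inv, map_inv, ht, hs]
        have := (Pi.mulSingle_commute (f := fun _ : Fin m => T) hij t s).eq
        rw [this]
        group
      obtain ⟨z, hzk, hxa⟩ := key a ha
      obtain ⟨z', hzk', hxb⟩ := key b hb
      have e1 : ∀ t : E, z * t = t * z := fun t => (mem_center_iff.1 (hz hzk) t).symm
      have e2 : ∀ t : E, z' * t = t * z' := fun t => (mem_center_iff.1 (hz hzk') t).symm
      have ea : x * a * x⁻¹ = z * a := by rw [hxa]; group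
      have eb : x * b * x⁻¹ = z' * b := by rw [hxb]; group
      have h2 : x * ⁅a, b⁆ * x⁻¹ = ⁅a, b⁆ := by
        calc x * ⁅a, b⁆ * x⁻¹ = (x * a * x⁻¹) * (x * b * x⁻¹) * (x * a * x⁻¹)⁻¹ * (x * b * x⁻¹)⁻¹ := by
              rw [commutatorElement_def]; group
          _ = (z * a) * (z' * b) * (z * a)⁻¹ * (z' * b)⁻¹ := by rw [ea, eb]
          _ = z * (a * (z' * b) * a⁻¹) * z⁻¹ * b⁻¹ * z'⁻¹ := by group
          _ = (a * (z' * b) * a⁻¹) * z * z⁻¹ * b⁻¹ * z'⁻¹ := by rw [e1]
          _ = a * (z' * (b * a⁻¹)) * b⁻¹ * z'⁻¹ := by group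
          _ = a * ((b * a⁻¹) * z') * b⁻¹ * z'⁻¹ := by rw [e2]
          _ = a * (b * a⁻¹) * (z' * b⁻¹) * z'⁻¹ := by group
          _ = a * (b * a⁻¹) * (b⁻¹ * z') * z'⁻¹ := by rw [e2]
          _ = ⁅a, b⁆ := by rw [commutatorElement_def]; group
      have h3 := congrArg (· * x) h2
      simp only [inv_mul_cancel_right] at h3
      exact h3.symm
    exact (mem_centralizer_singleton_iff.1 (h1 hy)).symm
  -- the sections
  let g : ∀ i, L i →* T := fun i => (Pi.evalMonoidHom (fun _ : Fin m => T) i).comp (f.comp (L i).subtype)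
  have hg : ∀ i (y : L i), f y = Pi.mulSingle i (g i y) := by
    intro i y
    obtain ⟨t, ht⟩ := (hS i y).1 (hLS i y.2)
    have : g i y = t := by
      show f y i = t
      rw [ht, Pi.mulSingle_eq_same]
    rw [this, ht]
  have hgb : ∀ i, Function.Bijective (g i) := by
    intro i
    constructor
    · rw [injective_iff_map_eq_one]
      intro y hy
      have h1 := hg i y
      rw [hy, Pi.mulSingle_one] at h1
      exact Subtype.ext (hLk i y y.2 h1)
    · intro t
      have h1 : (L i).map f = ((⊤ : Subgroup T).map (MonoidHom.mulSingle (fun _ : Fin m => T) i)) := by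
        show (⁅S i, S i⁆).map f = _
        rw [Subgroup.map_commutator, Subgroup.map_comap_eq_self_of_surjective hf, MonoidHom.range_eq_map,
          ← Subgroup.map_commutator, ← _root_.commutator_def, hT]
      have h2 : Pi.mulSingle i t ∈ (L i).map f := by
        rw [h1]
        exact ⟨t, trivial, rfl⟩
      obtain ⟨y, hy, hyt⟩ := h2
      refine ⟨⟨y, hy⟩, ?_⟩
      show f y i = t
      rw [hyt, Pi.mulSingle_eq_same]
  let s : ∀ i, T →* E := fun i => (L i).subtype.comp (MulEquiv.ofBijective (g i) (hgb i)).symm.toMonoidHom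
  have hs : ∀ i t, f (s i t) = Pi.mulSingle i t := by
    intro i t
    have h1 := hg i ((MulEquiv.ofBijective (g i) (hgb i)).symm t)
    have h2 : g i ((MulEquiv.ofBijective (g i) (hgb i)).symm t) = t :=
      (MulEquiv.ofBijective (g i) (hgb i)).apply_symm_apply t
    rw [h2] at h1
    exact h1
  have hsL : ∀ i t, s i t ∈ L i := fun i t => ((MulEquiv.ofBijective (g i) (hgb i)).symm t).2
  let σ : (Fin m → T) →* E := MonoidHom.noncommPiCoprod s (by
    intro i j hij x y
    exact hcomm i j hij _ (hLS i (hsL i x)) _ (hsL j y))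
  have hσ : ∀ x, f (σ x) = x := by
    have h1 : f.comp σ = MonoidHom.id (Fin m → T) := by
      refine MonoidHom.pi_ext fun i t => ?_
      show f (σ (Pi.mulSingle i t)) = Pi.mulSingle i t
      have h2 : σ (Pi.mulSingle i t) = s i t := MonoidHom.noncommPiCoprod_mulSingle (N := fun _ : Fin m => T) s i t
      rw [h2, hs]
    intro x
    exact DFunLike.congr_fun h1 x
  have hE' : _root_.commutator E ≤ σ.range := by
    rw [_root_.commutator_def, Subgroup.commutator_le]
    intro a _ b _
    refine ⟨⁅f a, f b⁆, ?_⟩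
    rw [map_commutatorElement]
    have key : ∀ c : E, ∃ z ∈ f.ker, c = z * σ (f c) := by
      intro c
      refine ⟨c * (σ (f c))⁻¹, ?_, by group⟩
      rw [MonoidHom.mem_ker, map_mul, map_inv, hσ, mul_inv_cancel]
    obtain ⟨z, hzk, ha⟩ := key a
    obtain ⟨z', hzk', hb⟩ := key b
    have e1 : ∀ t : E, z * t = t * z := fun t => (mem_center_iff.1 (hz hzk) t).symm
    have e2 : ∀ t : E, z' * t = t * z' := fun t => (mem_center_iff.1 (hz hzk') t).symm
    set A := σ (f a)
    set B := σ (f b)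
    rw [ha, hb]
    symm
    calc ⁅z * A, z' * B⁆ = z * (A * (z' * B) * A⁻¹) * z⁻¹ * B⁻¹ * z'⁻¹ := by
          rw [commutatorElement_def]; group
      _ = (A * (z' * B) * A⁻¹) * z * z⁻¹ * B⁻¹ * z'⁻¹ := by rw [e1]
      _ = A * (z' * (B * A⁻¹)) * B⁻¹ * z'⁻¹ := by group
      _ = A * ((B * A⁻¹) * z') * B⁻¹ * z'⁻¹ := by rw [e2]
      _ = A * (B * A⁻¹) * (z' * B⁻¹) * z'⁻¹ := by group
      _ = A * (B * A⁻¹) * (B⁻¹ * z') * z'⁻¹ := by rw [e2]
      _ = ⁅A, B⁆ := by rw [commutatorElement_def]; group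
  rw [eq_bot_iff]
  rintro x ⟨hx1, hx2⟩
  obtain ⟨y, rfl⟩ := hE' hx2
  have h1 : f (σ y) = 1 := hx1
  rw [hσ] at h1
  rw [h1, map_one]
  exact one_mem _

end Cfsg.Agent.H682.CT
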