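import Cfsg.Agent.H682.CT.Char
import Cfsg.Agent.Characters.CCBasic
import Cfsg.Agent.CharDeep.CliffordCorr
import Cfsg.Agent.CharactersDeep.NormalInd

/-!
# Characters vanishing off `Z` and an abelian normal subgroup `B ≥ Z`
-/

set_option autoImplicit false
set_option linter.unusedSectionVars false

namespace Cfsg.Agent.H682.CT

open Subgroup Cfsg Cfsg.Agent.Characters.Core
open scoped ComplexConjugate

universe u

section

variable {P : Type u} [Group P] [Finite P]

theorem hom_mul_conj {B : Type u} [Group B] [Finite B] (m : B →* ℂˣ) (b : B) : (m b : ℂ) * conj (m b : ℂ) = 1 := by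
  have h1 : (m b : ℂ) ^ Nat.card B = 1 := by
    rw [← Units.val_pow_eq_pow_val, ← map_pow, pow_card_eq_one', map_one, Units.val_one]
  have h2 := Complex.norm_eq_one_of_pow_eq_one h1 Nat.card_pos.ne'
  rw [Complex.mul_conj, Complex.normSq_eq_norm_sq, h2]
  norm_num

variable {Z B : Subgroup P} (hZB : Z ≤ B) {ψ : P → ℂ} (hψ : IsIrrCharacter P ψ) (van : ∀ x, x ∉ Z → ψ x = 0)

include van in
theorem inner_eq [Fintype B] (m : B →* ℂˣ) (hm : ∀ z (hz : z ∈ Z), ψ z = m ⟨z, hZB hz⟩ * ψ 1) :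
    classInner (fun b : B => ψ b) (fun b : B => (m b : ℂ)) = ψ 1 * Nat.card Z / Nat.card B := by
  classical
  rw [classInner_def]
  have h1 : ∀ b : B, ψ b * conj (m b : ℂ) = if (b : P) ∈ Z then ψ 1 else 0 := by
    intro b
    split_ifs with h
    · rw [hm b h, mul_right_comm, hom_mul_conj, one_mul]
    · rw [van b h, zero_mul]
  rw [Finset.sum_congr rfl fun b _ => h1 b, ← Finset.sum_filter, Finset.sum_const, nsmul_eq_mul]
  have h2 : ((Finset.univ.filter fun b : B => (b : P) ∈ Z).card : ℂ) = Nat.card Z := by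
    have h3 : Nat.card (Z.subgroupOf B) = Nat.card Z := Nat.card_congr (subgroupOfEquivOfLe hZB).toEquiv
    rw [← h3, Nat.card_eq_fintype_card, Fintype.card_subtype]
    congr 2
  rw [h2]
  ring

include hψ van in
/-- Two extensions are conjugate. -/
theorem exists_conj [hB : B.Normal] (m m' : B →* ℂˣ) (hm : ∀ z (hz : z ∈ Z), ψ z = m ⟨z, hZB hz⟩ * ψ 1)
    (hm' : ∀ z (hz : z ∈ Z), ψ z = m' ⟨z, hZB hz⟩ * ψ 1) :
    ∃ x : P, ∀ b : B, m' b = m (MulAut.conjNormal x b) := by
  classical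
  have := Fintype.ofFinite P
  have := Fintype.ofFinite B
  have hne : ψ 1 * Nat.card Z / Nat.card B ≠ 0 := by
    refine div_ne_zero (mul_ne_zero (isIrr_apply_one_ne_zero hψ) ?_) ?_
    · exact_mod_cast Nat.card_pos.ne'
    · exact_mod_cast Nat.card_pos.ne'
  obtain ⟨x, hx⟩ := Cfsg.Agent.Characters.Clifford.exists_conj_of_constituents B hψ
    (Characters.Linear.isIrrCharacter_hom m) (Characters.Linear.isIrrCharacter_hom m')
    (by rw [inner_eq hZB van m hm]; exact hne) (by rw [inner_eq hZB van m' hm']; exact hne)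
  refine ⟨x, fun b => ?_⟩
  have := congrFun hx b
  exact Units.ext this

include hψ van in
/-- The Clifford correspondent. -/
theorem exists_stab [hB : B.Normal] (m : B →* ℂˣ) (hm : ∀ z (hz : z ∈ Z), ψ z = m ⟨z, hZB hz⟩ * ψ 1)
    (T : Subgroup P) (hT : ∀ g : P, g ∈ T ↔ ∀ b : B, m (MulAut.conjNormal g b) = m b) (hBT : B ≤ T)
    (hn : ∀ z ∈ Z, ‖ψ z‖ = ‖ψ 1‖) :
    T.index * Nat.card Z = Nat.card B ∧ ∃ ξ : T → ℂ, IsIrrCharacter T ξ ∧ (∀ x : T, (x : P) ∉ B → ξ x = 0) ∧
      ∀ b : B, ξ ⟨b, hBT b.2⟩ = ξ 1 * m b := by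
  classical
  have := Fintype.ofFinite P
  have := Fintype.ofFinite B
  have := Fintype.ofFinite T
  obtain ⟨d, hd0, hd⟩ := isIrr_apply_one hψ
  have hne : ψ 1 * Nat.card Z / Nat.card B ≠ 0 := by
    refine div_ne_zero (mul_ne_zero (isIrr_apply_one_ne_zero hψ) ?_) ?_
    · exact_mod_cast Nat.card_pos.ne'
    · exact_mod_cast Nat.card_pos.ne'
  have hirr := Characters.Linear.isIrrCharacter_hom m
  have hT' : ∀ g : P, g ∈ T ↔ ∀ n : B, (fun b : B => (m b : ℂ)) ⟨g * n * g⁻¹, hB.conj_mem (n : P) n.2 g⟩ =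
      (fun b : B => (m b : ℂ)) n := by
    intro g
    rw [hT]
    refine forall_congr' fun b => ?_
    have : (MulAut.conjNormal g b : B) = ⟨g * b * g⁻¹, hB.conj_mem (b : P) b.2 g⟩ :=
      Subtype.ext (MulAut.conjNormal_apply g b)
    rw [this]
    exact ⟨fun h => congrArg Units.val h, fun h => Units.ext h⟩
  obtain ⟨ξ, hξ, hind, hin⟩ := CharDeep.CliffordCorr.clifford_correspondence B _ hirr T hT' hBT ψ hψ
    (by rw [inner_eq hZB van m hm]; exact hne)
  have hmul := CharDeep.CliffordCorr.restrict_eq_mul_of_invariant B T hBT hξ hirr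
    (fun g hg => (hT' g).1 hg) (by rw [hin, inner_eq hZB van m hm]; exact hne)
  rw [hin, inner_eq hZB van m hm] at hmul
  obtain ⟨e, he0, he⟩ := isIrr_apply_one hξ
  have h1 : ξ 1 = ψ 1 * Nat.card Z / Nat.card B := by
    have := hmul 1
    simp only [OneMemClass.coe_one, map_one, Units.val_one, mul_one] at this
    exact this
  have h2 : e * Nat.card B = d * Nat.card Z := by
    rw [he, hd] at h1
    have hB0 : (Nat.card B : ℂ) ≠ 0 := by exact_mod_cast Nat.card_pos.ne'
    rw [eq_div_iff hB0] at h1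
    exact_mod_cast h1
  have h3 : d = T.index * e := by
    have := CharactersDeep.NormalInd.indFun_one T ξ
    rw [hind, hd, he] at this
    exact_mod_cast this
  have hi : T.index * Nat.card Z = Nat.card B := by
    have : e * (T.index * Nat.card Z) = e * Nat.card B := by rw [h2, h3]; ring
    exact Nat.eq_of_mul_eq_mul_left he0 this
  refine ⟨hi, ξ, hξ, ?_, ?_⟩
  · intro x hx
    have h4 : d ^ 2 * Nat.card Z = Nat.card P := eq_of_vanish hψ hd hn van
    have h5 : Nat.card T * T.index = Nat.card P := card_mul_index T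
    have h6 : e ^ 2 * Nat.card B = Nat.card T := by
      have h7 : Nat.card B * (e ^ 2 * Nat.card B) = Nat.card B * Nat.card T := by
        calc Nat.card B * (e ^ 2 * Nat.card B) = (e * Nat.card B) ^ 2 := by ring
          _ = (d ^ 2 * Nat.card Z) * Nat.card Z := by rw [h2]; ring
          _ = (T.index * Nat.card Z) * Nat.card T := by rw [h4, ← h5]; ring
          _ = _ := by rw [hi]
      exact Nat.eq_of_mul_eq_mul_left Nat.card_pos h7
    have hcard : Nat.card (B.subgroupOf T) = Nat.card B := Nat.card_congr (subgroupOfEquivOfLe hBT).toEquiv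
    refine vanish_of_eq (A := B.subgroupOf T) hξ he ?_ (by rw [hcard, h6]) (fun h => hx h)
    intro a ha
    have h8 := hmul ⟨a, ha⟩
    have h9 : ξ a = ξ 1 * m ⟨a, ha⟩ := by rw [h1]; exact h8
    rw [h9, norm_mul]
    have h10 := hom_mul_conj m ⟨a, ha⟩
    rw [Complex.mul_conj, Complex.normSq_eq_norm_sq] at h10
    have h11 : ‖(m ⟨a, ha⟩ : ℂ)‖ ^ 2 = 1 := by exact_mod_cast h10
    have h12 : ‖(m ⟨a, ha⟩ : ℂ)‖ = 1 := by
      have := norm_nonneg (m ⟨a, ha⟩ : ℂ)
      nlinarith
    rw [h12, mul_one]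
  · intro b
    rw [h1]
    exact hmul b

end

end Cfsg.Agent.H682.CT
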