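import Cfsg.Agent.H682.CT.Claim
import Cfsg.Agent.H682.CT.Pi
import Cfsg.Agent.H682.CT.Crit
import Cfsg.Agent.Lib.MinNormal

/-!
# Groups of central type are solvable, from `Fit` for the nonabelian simple groups
-/

set_option autoImplicit false
set_option linter.unusedSectionVars false

namespace Cfsg.Agent.H682.CT

open Subgroup Cfsg Cfsg.Agent.Characters.Core
open scoped commutatorElement

universe u v

/-- Restriction to a Sylow subgroup: a constituent vanishes off `Z(G) ∩ P`. -/
theorem exists_sylow_char {G : Type u} [Group G] [Finite G] {χ : G → ℂ} (hχ : IsIrrCharacter G χ)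
    (hv : ∀ g, g ∉ center G → χ g = 0) {p : ℕ} [hp : Fact p.Prime] (P : Subgroup G) (hP : IsPGroup p P)
    (hPi : ¬ p ∣ P.index) :
    ∃ ψ : P → ℂ, IsIrrCharacter P ψ ∧ ∀ x : P, (x : G) ∉ center G → ψ x = 0 := by
  classical
  have := Fintype.ofFinite G
  have := Fintype.ofFinite P
  obtain ⟨ψ, hψ, hover⟩ := H672.exists_under (f := P.subtype) hχ
  rw [H672.over_iff] at hover
  refine ⟨ψ, hψ, ?_⟩
  obtain ⟨D, hD0, hD⟩ := isIrr_apply_one hχ
  obtain ⟨d, hd0, hd⟩ := isIrr_apply_one hψ
  set Z := center G with hZ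
  set Z' := Z.subgroupOf P with hZ'
  -- scalars
  have hsc : ∀ z : P, (z : G) ∈ Z → ∃ w : ℂ, ‖w‖ = 1 ∧ χ z = w * χ 1 ∧ ψ z = w * ψ 1 := by
    intro z hz
    obtain ⟨w, hw1, hw⟩ := exists_scalar hχ (z := (z : G)) (fun g => by
      congr 1
      rw [commutatorElement_def, mem_center_iff.1 hz g]
      group)
    obtain ⟨w', hw'1, hw'⟩ := exists_scalar hψ (z := z) (fun g => by
      congr 1
      apply Subtype.ext
      show ⁅(g : G), (z : G)⁆ = 1
      rw [commutatorElement_def, mem_center_iff.1 hz g]
      group)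
    have hww : w = w' := scalar_eq hover (z := z) (fun g => hw g) hw' hw'1
    refine ⟨w, hw1, ?_, ?_⟩
    · have := hw 1
      rwa [one_mul] at this
    · have := hw' 1
      rwa [one_mul, ← hww] at this
  have hn : ∀ z ∈ Z', ‖ψ z‖ = ‖ψ 1‖ := by
    intro z hz
    obtain ⟨w, hw1, -, hw⟩ := hsc z hz
    rw [hw, norm_mul, hw1, one_mul]
  -- the inner product
  obtain ⟨m, hm⟩ := classInner_isNat (isCharacter_comp P.subtype (isIrr_isCharacter hχ)) (isIrr_isCharacter hψ)
  have hinner : m * Nat.card P = D * d * Nat.card Z' := by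
    have h1 : ∀ x : P, (χ ∘ P.subtype) x * (starRingEnd ℂ) (ψ x) = if x ∈ Z' then (D * d : ℂ) else 0 := by
      intro x
      split_ifs with h
      · obtain ⟨w, hw1, h2, h3⟩ := hsc x h
        show χ x * _ = _
        rw [h2, h3, hD, hd, map_mul, Complex.conj_natCast]
        have h4 : w * (starRingEnd ℂ) w = 1 := by
          rw [Complex.mul_conj, Complex.normSq_eq_norm_sq, hw1]
          norm_num
        calc w * (D : ℂ) * ((starRingEnd ℂ) w * (d : ℂ)) = (w * (starRingEnd ℂ) w) * (D * d) := by ring
          _ = _ := by rw [h4, one_mul]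
      · show χ x * _ = _
        rw [hv x h, zero_mul]
    rw [classInner_def, Finset.sum_congr rfl fun x _ => h1 x, ← Finset.sum_filter, Finset.sum_const,
      nsmul_eq_mul] at hm
    have h2 : ((Finset.univ.filter fun x : P => x ∈ Z').card : ℂ) = Nat.card Z' := by
      rw [Nat.card_eq_fintype_card, Fintype.card_subtype]
    rw [h2] at hm
    have h3 : (Nat.card P : ℂ) ≠ 0 := by exact_mod_cast Nat.card_pos.ne'
    rw [inv_mul_eq_iff_eq_mul₀ h3] at hm
    have h4 : ((m * Nat.card P : ℕ) : ℂ) = ((D * d * Nat.card Z' : ℕ) : ℂ) := by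
      push_cast
      rw [mul_comm, ← hm]
      ring
    exact_mod_cast h4
  have hDZ : D ^ 2 * Nat.card Z = Nat.card G := by
    refine eq_of_vanish hχ hD ?_ hv
    intro z hz
    obtain ⟨w, hw1, hw⟩ := exists_scalar hχ (z := z) (fun g => by
      congr 1
      rw [commutatorElement_def, mem_center_iff.1 hz g]
      group)
    have := hw 1
    rw [one_mul] at this
    rw [this, norm_mul, hw1, one_mul]
  have hdle : d ^ 2 * Nat.card Z' ≤ Nat.card P := sq_mul_card_le hψ hd hn
  -- indices
  set I := Z'.index with hI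
  have hIP : Nat.card Z' * I = Nat.card P := card_mul_index Z'
  have hZi : D ^ 2 = Z.index := by
    have h1 := card_mul_index Z
    rw [← hDZ, mul_comm] at h1
    exact (Nat.eq_of_mul_eq_mul_right Nat.card_pos h1).symm
  obtain ⟨r, hr⟩ : P.relIndex Z ∣ P.index := relIndex_dvd_index_of_normal' P Z
  have hIr : Z.index = I * r := by
    have h1 := relIndex_mul_index (H := Z ⊓ P) (K := Z) inf_le_left
    have h2 := relIndex_mul_index (H := Z ⊓ P) (K := P) inf_le_right
    rw [inf_relIndex_left] at h1
    rw [inf_relIndex_right] at h2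
    have h3 : 0 < P.relIndex Z := Nat.pos_of_ne_zero index_ne_zero_of_finite
    apply Nat.eq_of_mul_eq_mul_left h3
    rw [h1, ← h2, hr]
    show I * (P.relIndex Z * r) = _
    ring
  have hpr : ¬ p ∣ r := fun h => hPi (by rw [hr]; exact Dvd.dvd.mul_left h _)
  obtain ⟨n, hn'⟩ := IsPGroup.iff_card.1 hP
  obtain ⟨a, -, ha⟩ : ∃ a, a ≤ n ∧ I = p ^ a := by
    refine (Nat.dvd_prime_pow hp.out).1 ?_
    rw [← hn', ← hIP]
    exact Dvd.intro_left _ rfl
  have hmI : m * I = D * d := by
    have h1 : 0 < Nat.card Z' := Nat.card_pos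
    apply Nat.eq_of_mul_eq_mul_left h1
    calc Nat.card Z' * (m * I) = m * (Nat.card Z' * I) := by ring
      _ = D * d * Nat.card Z' := by rw [hIP, hinner]
      _ = _ := by ring
  have hI0 : 0 < I := by rw [ha]; exact pow_pos hp.out.pos a
  have hmr : m ^ 2 * I = r * d ^ 2 := by
    apply Nat.eq_of_mul_eq_mul_left hI0
    calc I * (m ^ 2 * I) = (m * I) ^ 2 := by ring
      _ = D ^ 2 * d ^ 2 := by rw [hmI]; ring
      _ = _ := by rw [hZi, hIr]; ring
  have hco : Nat.Coprime I r := by
    rw [ha]
    exact Nat.Coprime.pow_left a ((Nat.Prime.coprime_iff_not_dvd hp.out).2 hpr)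
  have hId : I ∣ d ^ 2 := by
    refine hco.dvd_of_dvd_mul_left ?_
    rw [← hmr]
    exact Dvd.intro_left _ rfl
  have hle : I ≤ d ^ 2 := Nat.le_of_dvd (by positivity) hId
  have heq : d ^ 2 * Nat.card Z' = Nat.card P := by
    apply le_antisymm hdle
    rw [← hIP, mul_comm]
    exact Nat.mul_le_mul_right _ hle
  intro x hx
  exact vanish_of_eq (A := Z') hψ hd hn heq hx

/-- **Groups of central type are solvable**, from `Fit`. -/
theorem solvable_of_fit {G : Type u} [Group G] [Finite G] {χ : G → ℂ} (hχ : IsIrrCharacter G χ)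
    (hv : ∀ g, g ∉ center G → χ g = 0)
    (hfit : ∀ (S : Type u) [Group S] [Finite S] [IsSimpleGroup S], (¬ ∀ a b : S, a * b = b * a) → Fit.{u, u} S) :
    Group.IsSolvable G := by
  by_contra hns
  -- a maximal normal solvable subgroup containing the centre
  obtain ⟨N, hle, ⟨hN1, hN2, hN3⟩, hmax⟩ : ∃ N : Subgroup G, center G ≤ N ∧
      Maximal (fun N : Subgroup G => N.Normal ∧ Group.IsSolvable N ∧ center G ≤ N) N := by
    have h1 : (fun N : Subgroup G => N.Normal ∧ Group.IsSolvable N ∧ center G ≤ N) (center G) :=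
      ⟨inferInstance, Group.isSolvable_of_comm fun a b => Subtype.ext (mem_center_iff.1 b.2 a), le_rfl⟩
    obtain ⟨N, hN, hm⟩ := Set.Finite.exists_le_maximal (Set.toFinite {N : Subgroup G | N.Normal ∧
      Group.IsSolvable N ∧ center G ≤ N}) h1
    exact ⟨N, hN, hm⟩
  have hNtop : N ≠ ⊤ := by
    intro h
    apply hns
    rw [h] at hN2
    exact Group.isSolvable_of_surjective (f := (Subgroup.topEquiv (G := G)).toMonoidHom)
      Subgroup.topEquiv.surjective
  have hnt : Nontrivial (G ⧸ N) := by
    rw [QuotientGroup.nontrivial_iff]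
    exact hNtop
  obtain ⟨K, ⟨hK1, hK2⟩, hmin⟩ : ∃ K : Subgroup (G ⧸ N), Minimal (fun K => K.Normal ∧ K ≠ ⊥) K := by
    apply Set.Finite.exists_minimal (Set.toFinite _)
    exact ⟨⊤, inferInstance, top_ne_bot⟩
  have hmin' : ∀ M : Subgroup (G ⧸ N), M.Normal → M ≤ K → M = ⊥ ∨ M = K := by
    intro M hM hMK
    by_cases h : M = ⊥
    · exact Or.inl h
    · exact Or.inr (le_antisymm hMK (hmin ⟨hM, h⟩ hMK))
  have hmk := QuotientGroup.mk'_surjective N
  -- `K` is not solvable
  have hKs : ¬ Group.IsSolvable K := by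
    intro hKs
    have h1 : (K.comap (QuotientGroup.mk' N)).Normal := hK1.comap _
    have h2 : Group.IsSolvable (K.comap (QuotientGroup.mk' N)) := by
      let g : K.comap (QuotientGroup.mk' N) →* K := (QuotientGroup.mk' N).subgroupComap K
      let i : N →* K.comap (QuotientGroup.mk' N) := Subgroup.inclusion (by
        intro x hx
        rw [mem_comap]
        have : QuotientGroup.mk' N x = 1 := (QuotientGroup.eq_one_iff x).2 hx
        rw [this]
        exact one_mem _)
      refine Group.isSolvable_of_ker_le_range i g ?_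
      intro x hx
      have h3 : QuotientGroup.mk' N (x : G) = 1 := congrArg Subtype.val hx
      exact ⟨⟨x, (QuotientGroup.eq_one_iff (x : G)).1 h3⟩, rfl⟩
    have h3 : N ≤ K.comap (QuotientGroup.mk' N) := by
      intro x hx
      rw [mem_comap]
      have : QuotientGroup.mk' N x = 1 := (QuotientGroup.eq_one_iff x).2 hx
      rw [this]
      exact one_mem _
    have h4 := hmax ⟨h1, h2, hN3.trans h3⟩ h3
    apply hK2
    rw [eq_bot_iff]
    intro x hx
    obtain ⟨g, rfl⟩ := hmk x
    exact (QuotientGroup.eq_one_iff g).2 (h4 hx)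
  have hK1' := hK1
  obtain ⟨T, m, hTK, hT, hm, ⟨e⟩⟩ := Lib.MinNormal.exists_mulEquiv_pi K hK2 hmin'
  have hTna : ¬ ∀ a b : T, a * b = b * a := by
    intro hab
    apply hKs
    refine Group.isSolvable_of_comm fun a b => e.injective ?_
    rw [map_mul, map_mul]
    funext i
    exact hab _ _
  obtain ⟨p, hp, hpd, hE, hI⟩ := hfit T hTna
  have : Fact p.Prime := ⟨hp⟩
  have hTc := commutator_eq_top hTna
  have hKE : NoExt.{u, u} p K := (NoExt.pi hTc hE).congr e.symm
  have hKI : NoIdx p K := (NoIdx.pi hp hI).congr e.symm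
  have hKc : commutator K = ⊤ := by
    have h1 : (commutator (Fin m → T)).map e.symm.toMonoidHom = commutator K := by
      rw [_root_.commutator_def, Subgroup.map_commutator, ← MonoidHom.range_eq_map,
        MonoidHom.range_eq_top.2 e.symm.surjective, ← _root_.commutator_def]
    rw [← h1, commutator_pi hTc, ← MonoidHom.range_eq_map, MonoidHom.range_eq_top.2 e.symm.surjective]
  have hKp : p ∣ Nat.card K := by
    rw [Nat.card_congr e.toEquiv, Nat.card_pi, Finset.prod_const, Finset.card_univ, Fintype.card_fin]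
    exact hpd.trans (dvd_pow_self _ hm.ne')
  -- the configuration
  let P : Sylow p G := default
  have hPi : ¬ p ∣ (P : Subgroup G).index := P.not_dvd_index
  obtain ⟨ψ, hψ, hψv⟩ := exists_sylow_char hχ hv (P : Subgroup G) P.isPGroup' hPi
  let c : Cfg p K G :=
    { P := P
      Z := center G ⊓ P
      K := K.comap (QuotientGroup.mk' N)
      f := (QuotientGroup.mk' N).subgroupComap K
      ψ := ψ
      hP := P.isPGroup'
      hPi := hPi
      hZn := ⟨fun x hx g => by
        have h1 : g * x * g⁻¹ = x := by rw [mem_center_iff.1 (mem_inf.1 hx).1 g, mul_inv_cancel_right]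
        rw [h1]
        exact hx⟩
      hZP := inf_le_right
      hK := hK1.comap _
      hf := MonoidHom.subgroupComap_surjective_of_surjective _ _ hmk
      hR := by
        intro g k hk
        have h1 : QuotientGroup.mk' N (k : G) = 1 := congrArg Subtype.val hk
        apply Subtype.ext
        show QuotientGroup.mk' N (g * k * g⁻¹) = 1
        rw [map_mul, map_mul, h1, mul_one, ← map_mul, mul_inv_cancel, map_one]
      hRs := by
        let i : ((QuotientGroup.mk' N).subgroupComap K).ker →* N :=
          { toFun := fun x => ⟨((x : K.comap (QuotientGroup.mk' N)) : G),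
              (QuotientGroup.eq_one_iff _).1 (congrArg Subtype.val x.2)⟩
            map_one' := rfl
            map_mul' := fun _ _ => rfl }
        refine Group.isSolvable_of_isSolvable_injective (f := i) ?_
        intro x y hxy
        have h1 : (((x : K.comap (QuotientGroup.mk' N)) : G)) = ((y : K.comap (QuotientGroup.mk' N)) : G) :=
          congrArg (fun t : N => (t : G)) hxy
        exact Subtype.ext (Subtype.ext h1)
      hZR := by
        intro z hz
        have h1 : QuotientGroup.mk' N z = 1 := (QuotientGroup.eq_one_iff z).2 (hle (mem_inf.1 hz).1)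
        refine ⟨?_, ?_⟩
        · rw [mem_comap, h1]
          exact one_mem _
        · exact Subtype.ext h1
      irr := hψ
      van := by
        intro x hx
        exact hψv x fun h => hx (mem_inf.2 ⟨h, x.2⟩)
      cen := by
        rintro x ⟨g, z, hz, hx⟩
        have h1 : ⁅g, z⁆ = 1 := by
          rw [commutatorElement_def, mem_center_iff.1 (mem_inf.1 hz).1 g]
          group
        congr 1
        apply Subtype.ext
        rw [hx, h1]
        rfl }
  exact Cfg.claim hKI hKE hKc hKp _ G c rfl

end Cfsg.Agent.H682.CT
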