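import Cfsg.Agent.H682.CT.Cfg
import Cfsg.Agent.H682.CT.Stab

/-!
# Passing to the inertia group of an extension
-/

set_option autoImplicit false
set_option linter.unusedSectionVars false

namespace Cfsg.Agent.H682.CT

open Subgroup Cfsg Cfsg.Agent.Characters.Core
open scoped commutatorElement

universe u v

theorem relIndex_eq_index_of_mul {G : Type u} [Group G] (T P : Subgroup G)
    (h : ∀ g : G, ∃ t ∈ T, ∃ x ∈ P, g = t * x) : T.relIndex P = T.index := by
  let φ : P ⧸ T.subgroupOf P → G ⧸ T := Quotient.map' (fun x : P => (x : G)) (by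
    intro a b hab
    rw [QuotientGroup.leftRel_apply] at hab ⊢
    exact hab)
  refine Nat.card_eq_of_bijective φ ⟨?_, ?_⟩
  · rintro ⟨a⟩ ⟨b⟩ hab
    apply Quotient.sound'
    rw [QuotientGroup.leftRel_apply]
    exact (QuotientGroup.eq (s := T) (a := (a : G)) (b := (b : G))).1 hab
  · rintro ⟨g⟩
    obtain ⟨t, ht, x, hx, hg⟩ := h g⁻¹
    refine ⟨Quotient.mk'' ⟨x⁻¹, inv_mem hx⟩, ?_⟩
    apply Quotient.sound'
    rw [QuotientGroup.leftRel_apply]
    have : g = x⁻¹ * t⁻¹ := by rw [← mul_inv_rev, ← hg, inv_inv]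
    rw [this]
    simpa using inv_mem ht

/-- `|K : K ∩ T|` divides `|G : T|` for normal `K`. -/
theorem relIndex_dvd_index_of_normal' {G : Type u} [Group G] [Finite G] (T K : Subgroup G) [K.Normal] :
    T.relIndex K ∣ T.index := by
  have h1 := relIndex_mul_relIndex (T ⊓ K) T (T ⊔ K) inf_le_left le_sup_left
  have h2 := relIndex_mul_relIndex (T ⊓ K) K (T ⊔ K) inf_le_right le_sup_right
  rw [inf_relIndex_left] at h1
  rw [inf_relIndex_right, relIndex_sup_right] at h2
  have h3 : K.relIndex T ≠ 0 := index_ne_zero_of_finite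
  have h4 : T.relIndex (T ⊔ K) = T.relIndex K := by
    have : K.relIndex T * T.relIndex (T ⊔ K) = K.relIndex T * T.relIndex K := by
      rw [h1, ← h2, mul_comm]
    exact Nat.eq_of_mul_eq_mul_left (Nat.pos_of_ne_zero h3) this
  rw [← h4]
  exact Dvd.intro _ (relIndex_mul_index le_sup_left)

namespace Cfg

variable {p : ℕ} [hp : Fact p.Prime] {Q : Type v} [Group Q] {G : Type u} [Group G] [Finite G]

/-- Going to the inertia group of an extension of the central character. -/
theorem step_T (c : Cfg p Q G) (hs : c.Strong) (hQ : NoIdx p Q) (A : Subgroup G) [hA : A.Normal]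
    (hab : ∀ a ∈ A, ∀ b ∈ A, a * b = b * a) (hZA : c.Z < A) (hAP : A ≤ c.P)
    (hAR : ∀ a ∈ A, ∃ h : a ∈ c.K, c.f ⟨a, h⟩ = 1) :
    ∃ (T : Subgroup G) (c' : Cfg p Q T), c'.Z.index < c.Z.index := by
  classical
  have := Fintype.ofFinite G
  have := Fintype.ofFinite c.P
  set B : Subgroup c.P := A.subgroupOf c.P with hB
  have hBn : B.Normal := hA.subgroupOf _
  have := Fintype.ofFinite B
  set Z' : Subgroup c.P := c.Z.subgroupOf c.P with hZ'
  have hZB : Z' ≤ B := fun x hx => hZA.le hx
  have van' : ∀ x, x ∉ Z' → c.ψ x = 0 := fun x hx => c.van x hx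
  -- scalars on `Z`
  have hsc : ∀ z : c.P, (z : G) ∈ c.Z → ∃ w : ℂ, ‖w‖ = 1 ∧ ∀ g, c.ψ (g * z) = w * c.ψ g := by
    intro z hz
    refine exists_scalar c.irr fun g => ?_
    exact c.cen _ ⟨g, z, hz, rfl⟩
  -- a linear constituent
  obtain ⟨θ, hθ, hθ0⟩ := H672.exists_under (f := B.subtype) c.irr
  obtain ⟨m, rfl⟩ := Characters.CCBasic.exists_hom_of_comm (A := B) (by
    intro a b
    exact Subtype.ext (Subtype.ext (hab _ a.2 _ b.2))) hθ
  have hθ1 : classInner (fun b : B => c.ψ b) (fun b : B => (m b : ℂ)) ≠ 0 := by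
    rw [H672.over_iff] at hθ0
    exact hθ0
  have hm : ∀ z (hz : z ∈ Z'), c.ψ z = m ⟨z, hZB hz⟩ * c.ψ 1 := by
    intro z hz
    obtain ⟨w, hw1, hw⟩ := hsc z hz
    have h1 : w = (m ⟨z, hZB hz⟩ : ℂ) := by
      refine scalar_eq hθ1 (z := (⟨z, hZB hz⟩ : B)) (fun g => ?_) (fun g => ?_) ?_
      · exact hw g
      · rw [map_mul, Units.val_mul, mul_comm]
      · have h10 := hom_mul_conj m ⟨z, hZB hz⟩
        rw [Complex.mul_conj, Complex.normSq_eq_norm_sq] at h10
        have h11 : ‖(m ⟨z, hZB hz⟩ : ℂ)‖ ^ 2 = 1 := by exact_mod_cast h10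
        have := norm_nonneg (m ⟨z, hZB hz⟩ : ℂ)
        nlinarith
    have h2 := hw 1
    rw [one_mul, h1] at h2
    exact h2
  -- transport to `A`
  let eB : B ≃* A := subgroupOfEquivOfLe hAP
  let μ : A →* ℂˣ := m.comp eB.symm.toMonoidHom
  have hμ : ∀ b : B, μ (eB b) = m b := fun b => by
    simp [μ]
  have hμc : ∀ (x : c.P) (b : B), μ (MulAut.conjNormal (x : G) (eB b)) = m (MulAut.conjNormal x b) := by
    intro x b
    rw [← hμ]
    congr 1
  let T : Subgroup G :=
    { carrier := {g | ∀ a : A, μ (MulAut.conjNormal g a) = μ a}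
      mul_mem' := by
        intro g h hg hh a
        rw [map_mul, MulAut.mul_apply, hg, hh]
      one_mem' := by
        intro a
        rw [map_one, MulAut.one_apply]
      inv_mem' := by
        intro g hg a
        have := hg (MulAut.conjNormal g⁻¹ a)
        rw [← MulAut.mul_apply, ← map_mul, mul_inv_cancel, map_one, MulAut.one_apply] at this
        exact this.symm }
  have hTdef : ∀ g : G, g ∈ T ↔ ∀ a : A, μ (MulAut.conjNormal g a) = μ a := fun g => Iff.rfl
  have hAT : A ≤ T := by
    intro a ha b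
    congr 1
    apply Subtype.ext
    rw [MulAut.conjNormal_apply, hab a ha b b.2, mul_inv_cancel_right]
  set T' : Subgroup c.P := T.subgroupOf c.P with hT'
  have hT'm : ∀ g : c.P, g ∈ T' ↔ ∀ b : B, m (MulAut.conjNormal g b) = m b := by
    intro g
    rw [hT', mem_subgroupOf, hTdef]
    constructor
    · intro h b
      have := h (eB b)
      rwa [hμc, hμ] at this
    · intro h a
      obtain ⟨b, rfl⟩ := eB.surjective a
      rw [hμc, hμ]
      exact h b
  have hBT' : B ≤ T' := fun b hb => hAT hb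
  obtain ⟨hi, ξ, hξ, hξv, hξB⟩ := exists_stab hZB c.irr van' m hm T' hT'm hBT' (by
    intro z hz
    obtain ⟨w, hw1, hw⟩ := hsc z hz
    have := hw 1
    rw [one_mul] at this
    rw [this, norm_mul, hw1, one_mul])
  -- `G = T P`
  have hTP : ∀ g : G, ∃ t ∈ T, ∃ x ∈ c.P, g = t * x := by
    intro g
    let m' : B →* ℂˣ := (μ.comp (MulAut.conjNormal g).toMonoidHom).comp eB.toMonoidHom
    have hm'd : ∀ b, m' b = μ (MulAut.conjNormal g (eB b)) := fun b => rfl
    obtain ⟨x, hx⟩ := exists_conj hZB c.irr van' m m' hm (by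
      intro z hz
      rw [hm z hz]
      congr 2
      rw [hm'd, ← hμ]
      congr 1
      apply Subtype.ext
      rw [MulAut.conjNormal_apply]
      have h1 : ((eB ⟨z, hZB hz⟩ : A) : G) ∈ center G := hs.cent hz
      rw [mem_center_iff.1 h1 g, mul_inv_cancel_right])
    refine ⟨g * (x : G)⁻¹, ?_, x, x.2, by group⟩
    rw [hTdef]
    intro a
    obtain ⟨b, hb⟩ := eB.surjective (MulAut.conjNormal (x : G)⁻¹ a)
    have h1 := hx b
    rw [hm'd, ← hμc, hb] at h1
    have e1 : MulAut.conjNormal (x : G) (MulAut.conjNormal (x : G)⁻¹ a) = a := by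
      rw [← MulAut.mul_apply, ← map_mul, mul_inv_cancel, map_one, MulAut.one_apply]
    rw [e1] at h1
    rw [map_mul, MulAut.mul_apply, h1]
  have hidx : T.relIndex c.P = T.index := relIndex_eq_index_of_mul T c.P hTP
  -- the index of `T` is a power of `p`
  obtain ⟨a, ha⟩ : ∃ a, T.index = p ^ a := by
    obtain ⟨n, hn⟩ := IsPGroup.iff_card.1 c.hP
    have h1 : T'.index ∣ p ^ n := by
      rw [← hn]
      exact T'.index_dvd_card
    obtain ⟨a, -, ha⟩ := (Nat.dvd_prime_pow hp.out).1 h1
    exact ⟨a, by rw [← hidx]; exact ha⟩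
  -- `P ∩ T` is a Sylow subgroup of `T`
  have hPT : c.P.relIndex T = c.P.index := by
    have h1 := relIndex_mul_index (H := T ⊓ c.P) (K := T) inf_le_left
    have h2 := relIndex_mul_index (H := T ⊓ c.P) (K := c.P) inf_le_right
    rw [inf_relIndex_left] at h1
    rw [inf_relIndex_right, hidx] at h2
    have h3 : 0 < T.index := Nat.pos_of_ne_zero index_ne_zero_of_finite
    apply Nat.eq_of_mul_eq_mul_left h3
    rw [h2, ← h1, mul_comm]
  let eP : c.P.subgroupOf T ≃* T' :=
    { toFun := fun x => ⟨⟨(x : T), x.2⟩, (x : T).2⟩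
      invFun := fun x => ⟨⟨(x : c.P), x.2⟩, (x : c.P).2⟩
      left_inv := fun _ => rfl
      right_inv := fun _ => rfl
      map_mul' := fun _ _ => rfl }
  let ιK : c.K.subgroupOf T →* c.K :=
    { toFun := fun x => ⟨(x : T), x.2⟩
      map_one' := rfl
      map_mul' := fun _ _ => rfl }
  have hKn := c.hK
  have hsurj : Function.Surjective (c.f.comp ιK) := by
    have h1 : ((T.subgroupOf c.K).map c.f).index ∣ p ^ a := by
      rw [← ha]
      refine (index_map_dvd _ c.hf).trans ?_
      exact relIndex_dvd_index_of_normal' T c.K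
    obtain ⟨k, -, hk⟩ := (Nat.dvd_prime_pow hp.out).1 h1
    have h2 := hQ _ k hk
    intro q
    have h3 : q ∈ (T.subgroupOf c.K).map c.f := by rw [h2]; trivial
    obtain ⟨x, hx, rfl⟩ := h3
    exact ⟨⟨⟨x, hx⟩, x.2⟩, rfl⟩
  have hpg : IsPGroup p (c.P.subgroupOf T) := c.hP.comap_of_injective T.subtype T.subtype_injective
  refine ⟨T,
    { P := c.P.subgroupOf T
      Z := A.subgroupOf T
      K := c.K.subgroupOf T
      f := c.f.comp ιK
      ψ := ξ ∘ eP
      hP := hpg
      hPi := by
        show ¬ p ∣ c.P.relIndex T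
        rw [hPT]
        exact c.hPi
      hZn := hA.subgroupOf T
      hZP := fun x hx => hAP hx
      hK := c.hK.subgroupOf T
      hf := hsurj
      hR := by
        intro g k hk
        exact c.hR g (ιK k) hk
      hRs := by
        have := c.hRs
        let φ : (c.f.comp ιK).ker →* c.f.ker :=
          { toFun := fun x => ⟨ιK x, x.2⟩
            map_one' := rfl
            map_mul' := fun _ _ => rfl }
        refine Group.isSolvable_of_isSolvable_injective (f := φ) ?_
        intro x y hxy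
        have h1 := congrArg (fun t : c.f.ker => ((t : c.K) : G)) hxy
        exact Subtype.ext (Subtype.ext (Subtype.ext h1))
      hZR := by
        intro z hz
        obtain ⟨h, h'⟩ := hAR z hz
        exact ⟨h, h'⟩
      irr := isIrr_comp eP.toMonoidHom eP.surjective hξ
      van := by
        intro x hx
        exact hξv (eP x) hx
      cen := by
        rintro x ⟨t, z, hz, hx⟩
        have hzA : (z : G) ∈ A := hz
        have hxA : ((x : T) : G) ∈ A := by
          rw [hx]
          show ⁅(t : G), (z : G)⁆ ∈ A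
          rw [commutatorElement_def]
          exact mul_mem (hA.conj_mem _ hzA _) (inv_mem hzA)
        have h1 := hξB ⟨⟨(x : T), x.2⟩, hxA⟩
        have h2 : m ⟨⟨(x : T), x.2⟩, hxA⟩ = 1 := by
          rw [← hμ]
          have h3 : eB ⟨⟨(x : T), x.2⟩, hxA⟩ = MulAut.conjNormal (t : G) ⟨z, hzA⟩ * (⟨z, hzA⟩ : A)⁻¹ := by
            apply Subtype.ext
            show ((x : T) : G) = _
            rw [hx]
            simp only [Subgroup.coe_mul, MulAut.conjNormal_apply, InvMemClass.coe_inv]
            show ⁅(t : G), (z : G)⁆ = _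
            rw [commutatorElement_def]
          rw [h3, map_mul, map_inv, (hTdef t).1 t.2, mul_inv_cancel]
        rw [h2, Units.val_one, mul_one] at h1
        exact h1 }, ?_⟩
  show A.relIndex T < c.Z.index
  have h1 : A.relIndex T ∣ A.index := relIndex_dvd_index_of_normal A T
  have h2 : A.index < c.Z.index := index_strictAnti hZA
  exact lt_of_le_of_lt (Nat.le_of_dvd (Nat.pos_of_ne_zero index_ne_zero_of_finite) h1) h2

end Cfg

end Cfsg.Agent.H682.CT
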